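import Groth.Agent.Lib.FlatRel25.Local
import Groth.Agent.Lib.ModFlat.Basic
import Groth.Agent.Lib.SheafCoh.ModColim
import Groth.Agent.Lib.GlobFree25.Basic
import Groth.Agent.Lib.HomColim25.Local

/-! # Sections of sheaves of modules: local surjectivity, exactness, generation -/

set_option autoImplicit false
set_option linter.all false
set_option backward.isDefEq.respectTransparency false
set_option backward.isDefEq.respectTransparency.types false
universe u

open CategoryTheory CategoryTheory.Limits Opposite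

noncomputable section

namespace GrothLib.SecGen25

open FlatRel25

variable {C : Type u} [SmallCategory C] {J : GrothendieckTopology C} {O : Sheaf J CommRingCat.{u}}
  {L M N : ModSite.Mod O}

/-- The map on sections. -/
def mp (φ : M ⟶ N) (V : C) : ModSite.sect M V →+ ModSite.sect N V :=
  AddMonoidHom.mk' (fun s => (φ.val.app (op V)).hom s) fun _ _ => map_add _ _ _

theorem mp_smul (φ : M ⟶ N) {V : C} (a : O.obj.obj (op V)) (s : ModSite.sect M V) :
    mp φ V (a • s) = a • mp φ V s := (φ.val.app (op V)).hom.map_smul a s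

theorem mp_res (φ : M ⟶ N) {U V : C} (g : V ⟶ U) (s : ModSite.sect M U) :
    mp φ V (res M g s) = res N g (mp φ U s) := PresheafOfModules.naturality_apply φ.val g.op s

theorem mp_comp (φ : L ⟶ M) (ψ : M ⟶ N) (V : C) (s : ModSite.sect L V) : mp (φ ≫ ψ) V s = mp ψ V (mp φ V s) := rfl

theorem mp_id (V : C) (s : ModSite.sect M V) : mp (𝟙 M) V s = s := rfl

theorem mp_zero (V : C) (s : ModSite.sect M V) : mp (0 : M ⟶ N) V s = 0 := rfl

theorem mp_sum (φ : M ⟶ N) {V : C} {ι : Type*} [Fintype ι] (a : ι → O.obj.obj (op V)) (s : ι → ModSite.sect M V) :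
    mp φ V (∑ i, a i • s i) = ∑ i, a i • mp φ V (s i) := by
  rw [map_sum]
  exact Finset.sum_congr rfl fun i _ => mp_smul φ _ _

theorem res_sum {U V : C} (g : V ⟶ U) {ι : Type*} [Fintype ι] (a : ι → O.obj.obj (op U))
    (s : ι → ModSite.sect M U) : res M g (∑ i, a i • s i) = ∑ i, resR g (a i) • res M g (s i) := by
  rw [map_sum]
  exact Finset.sum_congr rfl fun i _ => res_smul M g _ _

theorem res_id (U : C) (s : ModSite.sect M U) : res M (𝟙 U) s = s := by
  rw [res_apply, op_id]
  simp

theorem eq_of_cover {U : C} {S : Sieve U} (hS : S ∈ J U) {a b : ModSite.sect M U}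
    (h : ∀ ⦃V : C⦄ (g : V ⟶ U), S g → res M g a = res M g b) : a = b := by
  have hM : Presheaf.IsSheaf J (M.val.presheaf ⋙ forget AddCommGrpCat.{u}) :=
    ((sheafCompose J (forget AddCommGrpCat.{u})).obj ⟨M.val.presheaf, M.isSheaf⟩).property
  exact (((isSheaf_iff_isSheaf_of_type _ _).1 hM).isSeparated S hS).ext fun V g hg => h g hg

theorem eq_zero_of_cover {U : C} {S : Sieve U} (hS : S ∈ J U) {a : ModSite.sect M U}
    (h : ∀ ⦃V : C⦄ (g : V ⟶ U), S g → res M g a = 0) : a = 0 :=
  eq_of_cover hS fun V g hg => (h g hg).trans (map_zero (res M g)).symm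

/-- Where a section lifts. -/
def liftSieve (φ : M ⟶ N) {U : C} (t : ModSite.sect N U) : Sieve U where
  arrows V g := ∃ x : ModSite.sect M V, mp φ V x = res N g t
  downward_closed := fun {V W g} ⟨x, hx⟩ k => ⟨res M k x, by rw [mp_res, hx, res_res]⟩

theorem liftSieve_mem (φ : M ⟶ N) [Epi φ] {U : C} (t : ModSite.sect N U) : liftSieve φ t ∈ J U := by
  have := SheafCoh.preservesColimitsOfSize_toSheaf.{u} (ModSite.ringSh O)
  have : PreservesFiniteColimits (SheafOfModules.toSheaf (ModSite.ringSh O)) :=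
    PreservesColimitsOfSize.preservesFiniteColimits.{u, u} _
  let φ' := (SheafOfModules.toSheaf (ModSite.ringSh O)).map φ
  have : Presheaf.IsLocallySurjective J φ'.hom := (Sheaf.isLocallySurjective_iff_epi' _ φ').2 inferInstance
  refine J.superset_covering ?_ (Presheaf.imageSieve_mem J φ'.hom (U := op U) t)
  rintro V g ⟨x, hx⟩
  exact ⟨x, hx⟩

theorem epi_of_locSurj (φ : M ⟶ N) (h : ∀ ⦃U : C⦄ (t : ModSite.sect N U), liftSieve φ t ∈ J U) : Epi φ := by
  let φ' := (SheafOfModules.toSheaf (ModSite.ringSh O)).map φ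
  have : Sheaf.IsLocallySurjective φ' := ⟨fun {U} t => by
    refine J.superset_covering ?_ (h t)
    rintro V g ⟨x, hx⟩
    exact ⟨x, hx⟩⟩
  have : Epi φ' := (Sheaf.isLocallySurjective_iff_epi' _ φ').1 this
  exact (SheafOfModules.toSheaf (ModSite.ringSh O)).epi_of_epi_map this

theorem injective_of_mono (φ : M ⟶ N) [Mono φ] (U : C) : Function.Injective (mp φ U) := by
  intro x y hxy
  refine (ModFlat.freeOnEquiv O U M).symm.injective ?_
  refine (cancel_mono φ).1 ((ModFlat.freeOnEquiv O U N).injective ?_)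
  rw [ModFlat.freeOnEquiv_comp, ModFlat.freeOnEquiv_comp, Equiv.apply_symm_apply, Equiv.apply_symm_apply]
  exact hxy

theorem mono_of_injective (φ : M ⟶ N) (h : ∀ U, Function.Injective (mp φ U)) : Mono φ :=
  ⟨fun {Z} a b hab => by
    apply SheafOfModules.hom_ext
    refine PresheafOfModules.hom_ext fun U => ModuleCat.hom_ext (LinearMap.ext fun z => h U.unop ?_)
    exact congrArg (fun e => mp e U.unop z) hab⟩

theorem exists_lift_of_exact {S : ShortComplex (ModSite.Mod O)} (hS : S.Exact) {U : C} (x : ModSite.sect S.X₂ U)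
    (hx : mp S.g U x = 0) : liftSieve S.f x ∈ J U := by
  have := hS.epi_kernelLift
  let a := (ModFlat.freeOnEquiv O U S.X₂).symm x
  have ha : a ≫ S.g = 0 := (ModFlat.freeOnEquiv O U S.X₃).injective <| by
    have h0 := ModFlat.freeOnEquiv_comp U (G' := S.X₃) a (0 : S.X₂ ⟶ S.X₃)
    rw [comp_zero] at h0
    rw [ModFlat.freeOnEquiv_comp, h0, Equiv.apply_symm_apply]
    exact hx
  let x' := ModFlat.freeOnEquiv O U (kernel S.g) (kernel.lift S.g a ha)
  have hx' : mp (kernel.ι S.g) U x' = x := by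
    refine (ModFlat.freeOnEquiv_comp U _ _).symm.trans ?_
    rw [kernel.lift_ι, Equiv.apply_symm_apply]
  refine J.superset_covering ?_ (liftSieve_mem (kernel.lift S.g S.f S.zero) x')
  rintro V g ⟨y, hy⟩
  refine ⟨y, ?_⟩
  rw [← hx', ← mp_res, ← hy]
  exact congrArg (fun e => mp e V y) (kernel.lift_ι S.g S.f S.zero).symm

/-- Where a section is a combination. -/
def spanSieve {ι : Type*} [Fintype ι] {U V : C} (g : V ⟶ U) (s : ι → ModSite.sect M U) (t : ModSite.sect M V) :
    Sieve V where
  arrows W k := ∃ a : ι → O.obj.obj (op W), res M k t = ∑ i, a i • res M (k ≫ g) (s i)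
  downward_closed := fun {W W' k} ⟨a, ha⟩ l => ⟨fun i => resR l (a i), by
    rw [← res_res, ha, res_sum]
    simp only [res_res, Category.assoc]⟩

/-- The sections generate on `U`. -/
def GenBy {ι : Type*} [Fintype ι] {U : C} (s : ι → ModSite.sect M U) : Prop :=
  ∀ ⦃V : C⦄ (g : V ⟶ U) (t : ModSite.sect M V), spanSieve g s t ∈ J V

theorem GenBy.restrict {ι : Type*} [Fintype ι] {U U' : C} (r : U' ⟶ U) {s : ι → ModSite.sect M U}
    (h : GenBy s) : GenBy fun i => res M r (s i) := fun V g t => by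
  refine J.superset_covering ?_ (h (g ≫ r) t)
  rintro W k ⟨a, ha⟩
  refine ⟨a, ?_⟩
  simpa only [res_res, Category.assoc] using ha

theorem GenBy.map {ι : Type*} [Fintype ι] {U : C} {s : ι → ModSite.sect M U}
    (h : GenBy s) (φ : M ⟶ N) [Epi φ] : GenBy fun i => mp φ U (s i) := fun V g t => by
  refine J.transitive (liftSieve_mem φ t) _ ?_
  rintro W k ⟨x, hx⟩
  refine J.superset_covering ?_ (h (k ≫ g) x)
  rintro W' l ⟨a, ha⟩
  refine ⟨a, ?_⟩
  rw [← res_res, ← hx, ← mp_res, ha, mp_sum]
  simp only [mp_res, res_res, Category.assoc]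

variable {R : Sheaf J RingCat.{u}}

theorem exists_eq_sum_freeSection {I : Type u} [Fintype I] (Z : C)
    (x : (GlobFree25.ev R Z).obj (SheafOfModules.free (R := R) I)) :
    ∃ a : I → R.obj.obj (op Z), x = ∑ i, a i • GlobFree25.e R i := by
  let P : Submodule (R.obj.obj (op Z)) ((GlobFree25.ev R Z).obj (SheafOfModules.free (R := R) I)) :=
    Submodule.span _ (Set.range (GlobFree25.e R))
  have h := GlobFree25.lin_ext R (N := ModuleCat.of _ (_ ⧸ P)) (ModuleCat.ofHom P.mkQ) 0 fun i =>
    (Submodule.Quotient.mk_eq_zero P).2 (Submodule.subset_span ⟨i, rfl⟩)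
  have hx : x ∈ P := (Submodule.Quotient.mk_eq_zero P).1 (ConcreteCategory.congr_hom h x)
  obtain ⟨a, ha⟩ := (Submodule.mem_span_range_iff_exists_fun _).1 hx
  exact ⟨a, ha.symm⟩

end GrothLib.SecGen25
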