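import Groth.Agent.Lib.SecGen25.Space
import Groth.Agent.Lib.ClosedEmbMod25.Basic

/-! # Finite type and direct image along closed embeddings -/

set_option autoImplicit false
set_option linter.all false
set_option maxHeartbeats 800000
set_option backward.isDefEq.respectTransparency false
set_option backward.isDefEq.respectTransparency.types false
universe u

open CategoryTheory CategoryTheory.Limits Opposite TopologicalSpace

noncomputable section

namespace GrothLib.SecGen25

open FlatRel25 ClosedEmbMod25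

variable {Z X : TopCat.{u}} {i : Z ⟶ X} {O_Z : TopCat.Sheaf CommRingCat.{u} Z} {O_X : TopCat.Sheaf CommRingCat.{u} X}
  {c : O_X ⟶ ((TopologicalSpace.Opens.map i).sheafPushforwardContinuous CommRingCat.{u}
    (Opens.grothendieckTopology X) (Opens.grothendieckTopology Z)).obj O_Z}
  {F : ModSite.Mod O_Z}

/-- A section of the direct image. -/
abbrev toPush (U : Opens X) (s : ModSite.sect F ((Opens.map i).obj U)) :
    ModSite.sect ((mor i O_Z O_X c).push.obj F) U := s

theorem sect_eq_zero_of_empty {V : Opens Z} (hV : V ≤ ⊥) (s : ModSite.sect F V) : s = 0 :=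
  eq_zero_of_cover (show (⊥ : Sieve V) ∈ Opens.grothendieckTopology Z V from fun z hz => (hV hz).elim)
    fun W g hg => hg.elim

theorem res_toPush {U W : Opens X} (g : W ⟶ U) (s : ModSite.sect F ((Opens.map i).obj U)) :
    res ((mor i O_Z O_X c).push.obj F) g (toPush (c := c) U s) = toPush W (res F ((Opens.map i).map g) s) := rfl

theorem smul_toPush {U : Opens X} (b : O_X.obj.obj (op U)) (s : ModSite.sect F ((Opens.map i).obj U)) :
    b • toPush (c := c) U s = toPush U (cmap i O_Z O_X c U b • s) := rfl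

theorem fg_of_push {U : Opens X} (hi : Topology.IsClosedEmbedding i) (h : FG ((mor i O_Z O_X c).push.obj F) U) :
    FG F ((Opens.map i).obj U) := by
  obtain ⟨ι, _, s, hs⟩ := h
  refine ⟨ι, ‹_›, fun j => (show ModSite.sect F ((Opens.map i).obj U) from s j), fun V g t => ?_⟩
  let W : Opens X := big i hi V ⊓ U
  have hW : (Opens.map i).obj W = V := by
    refine Opens.ext (Set.ext fun z => ⟨fun hz => (mem_big hi).1 hz.1, fun hz => ⟨(mem_big hi).2 hz, g.le hz⟩⟩)
  intro z hz
  obtain ⟨W', k, ⟨a, ha⟩, hzW⟩ := hs (homOfLE inf_le_right : W ⟶ U)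
    (toPush W (res F (eqToHom hW) t)) (i z) (hW.symm.le hz)
  refine ⟨(Opens.map i).obj W', (Opens.map i).map k ≫ eqToHom hW, ⟨fun j => cmap i O_Z O_X c W' (a j), ?_⟩, hzW⟩
  refine (res_res F (eqToHom hW) ((Opens.map i).map k) t).symm.trans (ha.trans ?_)
  refine Finset.sum_congr rfl fun j _ => ?_
  exact congrArg (fun e : (Opens.map i).obj W' ⟶ (Opens.map i).obj U =>
    cmap i O_Z O_X c W' (a j) • res F e (show ModSite.sect F ((Opens.map i).obj U) from s j))
    (Subsingleton.elim _ _)

theorem fg_push (hi : Topology.IsClosedEmbedding i) (hc : Sheaf.IsLocallySurjective c) {V : Opens Z}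
    {U : Opens X} (hU : (Opens.map i).obj U ≤ V) (h : FG F V) : FG ((mor i O_Z O_X c).push.obj F) U := by
  obtain ⟨ι, _, s, hs⟩ := h
  refine ⟨ι, ‹_›, fun j => toPush U (res F (homOfLE hU) (s j)), fun W g t x hx => ?_⟩
  by_cases hr : x ∈ Set.range i
  · obtain ⟨z, rfl⟩ := hr
    obtain ⟨V', k, ⟨a, ha⟩, hzV⟩ := hs ((Opens.map i).map g ≫ homOfLE hU) (show ModSite.sect F _ from t) z hx
    let W' : Opens X := big i hi V' ⊓ W
    have hW' : (Opens.map i).obj W' ≤ V' := fun y hy => (mem_big hi).1 hy.1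
    have hz : i z ∈ W' := ⟨(mem_big hi).2 hzV, hx⟩
    obtain ⟨T, hT, hT'⟩ := inter_mem (fun j => ClosedEmbMod25.liftSieve c hW' (a j)) fun j => ClosedEmbMod25.liftSieve_mem hW' hc (a j)
    obtain ⟨W'', l, hl, hzW⟩ := hT (i z) hz
    choose b hb using fun j => hT' j l hl
    refine ⟨W'', l ≫ homOfLE inf_le_right, ⟨b, ?_⟩, hzW⟩
    let q : (Opens.map i).obj W'' ⟶ V' := (Opens.map i).map l ≫ homOfLE hW'
    have h1 := congrArg (res F q) ha
    rw [res_res, res_sum] at h1
    refine Eq.trans (congrArg (fun e => res F e (show ModSite.sect F _ from t)) (Subsingleton.elim _ _)) (h1.trans ?_)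
    refine Finset.sum_congr rfl fun j _ => ?_
    rw [res_res, res_toPush, smul_toPush, res_res, hb j]
    exact congrArg (fun e => resR q (a j) • res F e (s j)) (Subsingleton.elim _ _)
  · let W' : Opens X := W ⊓ ⟨(Set.range i)ᶜ, hi.isClosed_range.isOpen_compl⟩
    refine ⟨W', homOfLE inf_le_left, ⟨fun _ => 0, ?_⟩, ⟨hx, hr⟩⟩
    exact (sect_eq_zero_of_empty (V := (Opens.map i).obj W') (fun y hy => (hy.2 ⟨y, rfl⟩).elim)
      (show ModSite.sect F _ from _)).trans
      (sect_eq_zero_of_empty (V := (Opens.map i).obj W') (fun y hy => (hy.2 ⟨y, rfl⟩).elim)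
        (show ModSite.sect F _ from _)).symm

theorem isFiniteType_push_iff (hi : Topology.IsClosedEmbedding i) (hc : Sheaf.IsLocallySurjective c) :
    SheafOfModules.IsFiniteType (R := ModSite.ringSh O_X) ((mor i O_Z O_X c).push.obj F) ↔
      SheafOfModules.IsFiniteType (R := ModSite.ringSh O_Z) F := by
  refine ⟨fun h => isFiniteType_of_nhds fun z => ?_, fun h => isFiniteType_of_nhds fun x => ?_⟩
  · obtain ⟨U, hU, hFG⟩ := exists_fg h (i z)
    exact ⟨_, hU, fg_of_push hi hFG⟩
  · by_cases hr : x ∈ Set.range i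
    · obtain ⟨z, rfl⟩ := hr
      obtain ⟨V, hz, hFG⟩ := exists_fg h z
      exact ⟨big i hi V, (mem_big hi).2 hz, fg_push hi hc (map_big hi V).le hFG⟩
    · refine ⟨⟨(Set.range i)ᶜ, hi.isClosed_range.isOpen_compl⟩, hr, Fin 0, inferInstance, fun j => j.elim0,
        fun W g t => (Opens.grothendieckTopology X).superset_covering ?_ ((Opens.grothendieckTopology X).top_mem W)⟩
      intro W' k _
      refine ⟨fun j => j.elim0, ?_⟩
      rw [Finset.sum_of_isEmpty]
      exact sect_eq_zero_of_empty (F := F) (V := (Opens.map i).obj W') (fun y hy => ((k ≫ g).le hy ⟨y, rfl⟩).elim) (res F _ _)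

end GrothLib.SecGen25
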