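import Groth.Agent.Lib.SecGen25.Stalk
import Mathlib.CategoryTheory.Sites.Point.Skyscraper
import Mathlib.CategoryTheory.Limits.ConcreteCategory.Basic
import Mathlib.Algebra.Category.Grp.FilteredColimits

/-! # Sums and directed colimits of modules on spaces -/

set_option autoImplicit false
set_option linter.all false
set_option maxHeartbeats 800000
set_option backward.isDefEq.respectTransparency false
set_option backward.isDefEq.respectTransparency.types false
universe u

open CategoryTheory CategoryTheory.Limits Opposite TopologicalSpace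

noncomputable section

namespace GrothLib.SecGen25

open FlatRel25

variable {X : TopCat.{u}} {O : TopCat.Sheaf CommRingCat.{u} X}

local notation "pt" => Opens.pointGrothendieckTopology

variable (O) in
/-- The stalk as an abelian group. -/
abbrev stalkFun (x : X) : ModSite.Mod O ⥤ AddCommGrpCat.{u} :=
  SheafOfModules.toSheaf (ModSite.ringSh O) ⋙ (pt x).sheafFiber

theorem preservesColimits_stalkFun (x : X) : PreservesColimitsOfSize.{u, u} (stalkFun O x) := by
  have := SheafCoh.preservesColimitsOfSize_toSheaf.{u} (ModSite.ringSh O)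
  exact comp_preservesColimits _ _

theorem exists_nhd_eq {M : ModSite.Mod O} {x : X} {U : Opens X} (hx : x ∈ U) (s s' : ModSite.sect M U)
    (h : ModSite.germ (pt x) M U ⟨⟨hx⟩⟩ s = ModSite.germ (pt x) M U ⟨⟨hx⟩⟩ s') :
    ∃ (V : Opens X) (g : V ⟶ U), x ∈ V ∧ res M g s = res M g s' := by
  obtain ⟨V, g, v, -, hv⟩ := exists_res_eq (pt x) (X := U) ⟨⟨hx⟩⟩ (fun _ : Unit => s) (fun _ => s') fun _ => h
  exact ⟨V, g, v.down.down, hv ()⟩

section directed

variable {I : Type u} [Preorder I] [Nonempty I] [IsDirected I (· ≤ ·)] {D : I ⥤ ModSite.Mod O}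
  {c : Cocone D} (hc : IsColimit c)

include hc in
theorem exists_stage {U : Opens X} (s : ModSite.sect c.pt U) {x : X} (hx : x ∈ U) :
    ∃ (i : I) (V : Opens X) (g : V ⟶ U) (t : ModSite.sect (D.obj i) V),
      x ∈ V ∧ mp (c.ι.app i) V t = res c.pt g s := by
  have := preservesColimits_stalkFun (O := O) x
  obtain ⟨i, m, hm⟩ := Concrete.isColimit_exists_rep _ (isColimitOfPreserves (stalkFun O x) hc)
    (ModSite.germ (pt x) c.pt U ⟨⟨hx⟩⟩ s)
  obtain ⟨W, w, t, rfl⟩ := exists_germ (M := D.obj i) (x := x) m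
  have hm' : ModSite.germ (pt x) c.pt W w (mp (c.ι.app i) W t) = ModSite.germ (pt x) c.pt U ⟨⟨hx⟩⟩ s :=
    (stalkMap_germ (c.ι.app i) W w t).symm.trans hm
  obtain ⟨V, g, hxV, hV⟩ := exists_nhd_eq (U := U ⊓ W) ⟨hx, w.down.down⟩
    (res c.pt (homOfLE inf_le_right) (mp (c.ι.app i) W t)) (res c.pt (homOfLE inf_le_left) s)
    (by rw [germ_res, germ_res]; exact hm')
  refine ⟨i, V, g ≫ homOfLE inf_le_left, res (D.obj i) (g ≫ homOfLE inf_le_right) t, hxV, ?_⟩
  rw [res_res, res_res] at hV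
  exact (mp_res (c.ι.app i) _ t).trans hV

include hc in
theorem exists_kernel_stage {i : I} {U : Opens X} (v : ModSite.sect (D.obj i) U) (hv : mp (c.ι.app i) U v = 0)
    {x : X} (hx : x ∈ U) :
    ∃ (j : I) (f : i ⟶ j) (V : Opens X) (g : V ⟶ U), x ∈ V ∧ mp (D.map f) V (res (D.obj i) g v) = 0 := by
  have := preservesColimits_stalkFun (O := O) x
  have h0 : (stalkFun O x).map (c.ι.app i) (ModSite.germ (pt x) (D.obj i) U ⟨⟨hx⟩⟩ v) =
      (stalkFun O x).map (c.ι.app i) 0 := by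
    rw [map_zero]
    refine (stalkMap_germ (c.ι.app i) U ⟨⟨hx⟩⟩ v).trans ?_
    rw [hv]
    exact map_zero ((pt x).toPresheafFiber U ⟨⟨hx⟩⟩ (ModSite.toAb c.pt).obj).hom
  have : IsDirectedOrder I := ⟨IsDirected.directed⟩
  obtain ⟨j, f, f', hj⟩ := Concrete.isColimit_exists_of_rep_eq _ (isColimitOfPreserves (stalkFun O x) hc)
    (ModSite.germ (pt x) (D.obj i) U ⟨⟨hx⟩⟩ v) 0 h0
  have hj' : ModSite.germ (pt x) (D.obj j) U ⟨⟨hx⟩⟩ (mp (D.map f) U v) =
      ModSite.germ (pt x) (D.obj j) U ⟨⟨hx⟩⟩ 0 := by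
    refine (stalkMap_germ (D.map f) U ⟨⟨hx⟩⟩ v).symm.trans (hj.trans ?_)
    rw [map_zero]
    exact (map_zero ((pt x).toPresheafFiber U ⟨⟨hx⟩⟩ (ModSite.toAb (D.obj j)).obj).hom).symm
  obtain ⟨V, g, hxV, hV⟩ := exists_nhd_eq hx _ _ hj'
  exact ⟨j, f, V, g, hxV, by rw [mp_res, hV, map_zero]⟩

include hc in
theorem mono_ι (h : ∀ (i j : I) (f : i ⟶ j), Mono (D.map f)) (i : I) : Mono (c.ι.app i) :=
  mono_of_injective _ fun U => (injective_iff_map_eq_zero _).2 fun v hv => by
    let S : Sieve U := ⟨fun V g => res (D.obj i) g v = 0, fun {V V' g} hg k => by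
      rw [← res_res, hg, map_zero]⟩
    have hS : S ∈ Opens.grothendieckTopology X U := fun x hx => by
      obtain ⟨j, f, V, g, hxV, hV⟩ := exists_kernel_stage hc v hv hx
      have := h i j f
      exact ⟨V, g, (injective_of_mono (D.map f) V) (hV.trans (map_zero _).symm), hxV⟩
    exact eq_zero_of_cover hS fun V g hg => hg

include hc in
theorem exists_epi_ι [CompactSpace X] (hpt : SheafOfModules.IsFiniteType (R := ModSite.ringSh O) c.pt) :
    ∃ i : I, Epi (c.ι.app i) := by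
  classical
  have : ∀ x : X, ∃ (V : Opens X) (i : I), x ∈ V ∧ ∃ (ι : Type) (_ : Fintype ι) (s : ι → ModSite.sect c.pt V)
      (t : ι → ModSite.sect (D.obj i) V), GenBy s ∧ ∀ k, mp (c.ι.app i) V (t k) = s k := fun x => by
    obtain ⟨U, hxU, ι, _, s, hs⟩ := exists_fg hpt x
    choose i V g t hxV ht using fun k => exists_stage hc (s k) hxU
    obtain ⟨j, hj⟩ := (Finset.univ.image i).exists_le
    let W : Opens X := U ⊓ Finset.univ.inf V
    have hW : ∀ k, W ≤ V k := fun k => inf_le_right.trans (Finset.inf_le (Finset.mem_univ k))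
    refine ⟨W, j, ⟨hxU, ?_⟩, ι, ‹_›, fun k => res c.pt (homOfLE inf_le_left) (s k),
      fun k => mp (D.map (homOfLE (hj _ (Finset.mem_image_of_mem i (Finset.mem_univ k))))) W
        (res (D.obj (i k)) (homOfLE (hW k)) (t k)), hs.restrict _, fun k => ?_⟩
    · change x ∈ ((Finset.univ.inf V : Opens X) : Set X)
      rw [Opens.coe_finset_inf, Finset.inf_set_eq_iInter, Set.mem_iInter₂]
      exact fun k _ => hxV k
    · refine (mp_comp _ (c.ι.app j) W _).symm.trans ?_
      rw [c.w]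
      refine (mp_res (c.ι.app (i k)) _ (t k)).trans ((congrArg (res c.pt _) (ht k)).trans ((res_res c.pt _ _ _).trans ?_))
      exact congrArg (fun e => res c.pt e (s k)) (Subsingleton.elim _ _)
  choose V i hxV ι hι s t hs ht using this
  obtain ⟨F, hF⟩ := isCompact_univ.elim_finite_subcover (fun x => (V x : Set X)) (fun x => (V x).isOpen)
    fun x _ => Set.mem_iUnion.2 ⟨x, hxV x⟩
  obtain ⟨j, hj⟩ := (F.image i).exists_le
  refine ⟨j, epi_of_locSurj _ fun U y z hz => ?_⟩
  obtain ⟨x, hxF, hzx⟩ := Set.mem_iUnion₂.1 (hF (Set.mem_univ z))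
  letI := hι x
  let W : Opens X := U ⊓ V x
  obtain ⟨W', k, ⟨a, ha⟩, hzW⟩ := hs x (homOfLE inf_le_right : W ⟶ V x) (res c.pt (homOfLE inf_le_left) y) z ⟨hz, hzx⟩
  refine ⟨W', k ≫ homOfLE inf_le_left, ⟨mp (D.map (homOfLE (hj _ (Finset.mem_image_of_mem i hxF)))) W'
    (∑ m, a m • res (D.obj (i x)) (k ≫ homOfLE inf_le_right) (t x m)), ?_⟩, hzW⟩
  refine (mp_comp _ (c.ι.app j) W' _).symm.trans ?_
  rw [c.w]
  refine Eq.trans ?_ (res_res c.pt (homOfLE inf_le_left) k y)
  refine Eq.trans ?_ ha.symm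
  refine (mp_sum (N := c.pt) (c.ι.app (i x)) a _).trans (Finset.sum_congr rfl fun m _ => congrArg (a m • ·) ?_)
  exact (mp_res (N := c.pt) (c.ι.app (i x)) _ (t x m)).trans (congrArg (res c.pt _) (ht x m))

end directed

section sums

variable {I : Type u} (F : I → ModSite.Mod O) [HasCoproduct F]

theorem exists_finset_sum {U : Opens X} (s : ModSite.sect (∐ F) U) {x : X} (hx : x ∈ U) :
    ∃ (V : Opens X) (g : V ⟶ U) (S : Finset I) (t : ∀ i, ModSite.sect (F i) V),
      x ∈ V ∧ res (∐ F) g s = ∑ i ∈ S, mp (Sigma.ι F i) V (t i) := by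
  classical
  have := preservesColimits_stalkFun (O := O) x
  have hc := isColimitCofanMkObjOfIsColimit (stalkFun O x) _ _ (coproductIsCoproduct F)
  let P : AddSubgroup ((stalkFun O x).obj (∐ F)) :=
    ⨆ i, ((stalkFun O x).map (Sigma.ι F i)).hom.range
  have hP : ModSite.germ (pt x) (∐ F) U ⟨⟨hx⟩⟩ s ∈ P := by
    have h : AddCommGrpCat.ofHom (QuotientAddGroup.mk' P) = 0 := hc.hom_ext fun ⟨i⟩ => AddCommGrpCat.hom_ext <|
      AddMonoidHom.ext fun m => (QuotientAddGroup.eq_zero_iff _).2 (le_iSup (fun i =>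
        ((stalkFun O x).map (Sigma.ι F i)).hom.range) i ⟨m, rfl⟩)
    exact (QuotientAddGroup.eq_zero_iff _).1 (ConcreteCategory.congr_hom h _)
  suffices ∀ m ∈ P, ∃ (V : Opens X) (v : (pt x).fiber.obj V) (S : Finset I) (t : ∀ i, ModSite.sect (F i) V),
      ModSite.germ (pt x) (∐ F) V v (∑ i ∈ S, mp (Sigma.ι F i) V (t i)) = m by
    obtain ⟨V, v, S, t, h⟩ := this _ hP
    obtain ⟨W, g, hxW, hW⟩ := exists_nhd_eq (U := U ⊓ V) ⟨hx, v.down.down⟩
      (res (∐ F) (homOfLE inf_le_left) s) (res (∐ F) (homOfLE inf_le_right) (∑ i ∈ S, mp (Sigma.ι F i) V (t i)))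
      (by rw [germ_res, germ_res]; exact h.symm)
    refine ⟨W, g ≫ homOfLE inf_le_left, S, fun i => res (F i) (g ≫ homOfLE inf_le_right) (t i), hxW, ?_⟩
    rw [← res_res, hW, res_res, map_sum]
    simp only [mp_res]
  intro m hm
  induction hm using AddSubgroup.iSup_induction' with
  | hp i m hm =>
    obtain ⟨m, rfl⟩ := hm
    obtain ⟨V, v, t, rfl⟩ := exists_germ (M := F i) (x := x) m
    refine ⟨V, v, {i}, fun j => if h : i = j then h ▸ t else 0, ?_⟩
    rw [Finset.sum_singleton]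
    simp only [dite_true]
    exact (stalkMap_germ (Sigma.ι F i) V v t).symm
  | h1 => exact ⟨U, ⟨⟨hx⟩⟩, ∅, fun _ => 0, map_zero ((pt x).toPresheafFiber U _ (ModSite.toAb (∐ F)).obj).hom⟩
  | hadd a b _ _ iha ihb =>
    obtain ⟨V, v, S, t, rfl⟩ := iha
    obtain ⟨V', v', S', t', rfl⟩ := ihb
    refine ⟨V ⊓ V', ⟨⟨⟨v.down.down, v'.down.down⟩⟩⟩, S ∪ S', fun i =>
      (if i ∈ S then res (F i) (homOfLE inf_le_left) (t i) else 0) +
        (if i ∈ S' then res (F i) (homOfLE inf_le_right) (t' i) else 0), ?_⟩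
    have h1 : (∑ i ∈ S ∪ S', mp (Sigma.ι F i) (V ⊓ V') ((if i ∈ S then res (F i) (homOfLE inf_le_left) (t i) else 0) +
        (if i ∈ S' then res (F i) (homOfLE inf_le_right) (t' i) else 0))) =
        res (∐ F) (homOfLE inf_le_left) (∑ i ∈ S, mp (Sigma.ι F i) V (t i)) +
          res (∐ F) (homOfLE inf_le_right) (∑ i ∈ S', mp (Sigma.ι F i) V' (t' i)) := by
      simp only [map_add, Finset.sum_add_distrib, apply_ite (mp (Sigma.ι F _) _), map_zero, Finset.sum_ite_mem,
        Finset.union_inter_cancel_left, Finset.union_inter_cancel_right, map_sum, mp_res]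
    rw [h1]
    exact (map_add ((pt x).toPresheafFiber _ _ (ModSite.toAb (∐ F)).obj).hom _ _).trans
      (congrArg₂ (· + ·) (germ_res (pt x) _ _ _) (germ_res (pt x) _ _ _))

open Classical in
/-- The projections of a sum. -/
def proj (j : I) : (∐ F) ⟶ F j := Sigma.desc fun i => if h : i = j then eqToHom (congrArg F h) else 0

theorem proj_sum {U : Opens X} (S : Finset I) (t : ∀ i, ModSite.sect (F i) U) (j : I) [Decidable (j ∈ S)] :
    mp (proj F j) U (∑ i ∈ S, mp (Sigma.ι F i) U (t i)) = if j ∈ S then t j else 0 := by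
  classical
  rw [map_sum]
  have h : ∀ i, mp (proj F j) U (mp (Sigma.ι F i) U (t i)) = if h : i = j then h ▸ t i else 0 := fun i => by
    rw [← mp_comp, proj, Sigma.ι_desc]
    split_ifs with h
    · subst h; rfl
    · rfl
  simp only [h]
  split_ifs with hj
  · rw [Finset.sum_eq_single j (fun i _ hi => dif_neg hi) (fun h => absurd hj h), dif_pos rfl]
  · exact Finset.sum_eq_zero fun i hi => dif_neg fun e : i = j => hj (e ▸ hi)

theorem sum_mp_bijective {U : Opens X} (hU : IsCompact (U : Set X)) :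
    (∀ s : ModSite.sect (∐ F) U, ∃ (S : Finset I) (t : ∀ i, ModSite.sect (F i) U),
        s = ∑ i ∈ S, mp (Sigma.ι F i) U (t i)) ∧
      ∀ (S : Finset I) (t : ∀ i, ModSite.sect (F i) U),
        ∑ i ∈ S, mp (Sigma.ι F i) U (t i) = 0 → ∀ i ∈ S, t i = 0 := by
  classical
  refine ⟨fun s => ?_, fun S t h j hj => ?_⟩
  · choose V g S t hxV ht using fun x : U => exists_finset_sum F s x.2
    obtain ⟨T, hT⟩ := hU.elim_finite_subcover (fun x : U => (V x : Set X)) (fun x => (V x).isOpen)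
      fun x hx => Set.mem_iUnion.2 ⟨⟨x, hx⟩, hxV ⟨x, hx⟩⟩
    refine ⟨T.biUnion S, fun i => mp (proj F i) U s, ?_⟩
    let R : Sieve U := ⟨fun W _ => ∃ y ∈ T, W ≤ V y, fun {W W' _} ⟨y, hy, hW⟩ k => ⟨y, hy, k.le.trans hW⟩⟩
    have hR : R ∈ Opens.grothendieckTopology X U := fun x hx => by
      obtain ⟨y, hy, hxy⟩ := Set.mem_iUnion₂.1 (hT hx)
      exact ⟨V y, g y, ⟨y, hy, le_rfl⟩, hxy⟩
    refine eq_of_cover hR fun W k ⟨y, hy, hW⟩ => ?_
    have hk : k = homOfLE hW ≫ g y := Subsingleton.elim _ _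
    rw [hk, ← res_res, ← res_res, ht, map_sum (res (∐ F) (g y))]
    refine congrArg (res (∐ F) (homOfLE hW)) ?_
    have hproj : ∀ i, res (F i) (g y) (mp (proj F i) U s) = if i ∈ S y then t y i else 0 := fun i => by
      rw [← mp_res, ht, proj_sum]
    simp only [← mp_res, hproj, apply_ite (mp (Sigma.ι F _) _), map_zero, Finset.sum_ite_mem]
    rw [Finset.inter_eq_right.2 (Finset.subset_biUnion_of_mem S hy)]
  · have := congrArg (mp (proj F j) U) h
    rwa [proj_sum, if_pos hj, map_zero] at this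

end sums

end GrothLib.SecGen25
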