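import Groth.Agent.Lib.SecGen25.Basic
import Mathlib.Algebra.Category.ModuleCat.Sheaf.Quasicoherent

/-! # Finite type and finite presentation through sections -/

set_option autoImplicit false
set_option linter.all false
set_option maxHeartbeats 800000
set_option backward.isDefEq.respectTransparency false
set_option backward.isDefEq.respectTransparency.types false
universe u

open CategoryTheory CategoryTheory.Limits Opposite

noncomputable section

namespace GrothLib.SecGen25

open FlatRel25

variable {C : Type u} [SmallCategory C] {J : GrothendieckTopology C} {O : Sheaf J CommRingCat.{u}}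
  {M : ModSite.Mod O}

/-- Where coefficients are combinations of given ones. -/
def coefSieve {ι κ : Type*} [Fintype κ] {U V : C} (g : V ⟶ U) (r : κ → ι → O.obj.obj (op U))
    (a : ι → O.obj.obj (op V)) : Sieve V where
  arrows W k := ∃ c : κ → O.obj.obj (op W), ∀ i, resR k (a i) = ∑ j, c j * resR (k ≫ g) (r j i)
  downward_closed := fun {W W' k} ⟨c, hc⟩ l => ⟨fun j => resR l (c j), fun i => by
    rw [← resR_resR k l (a i), hc i]
    simp only [resR, map_sum, map_mul]
    refine Finset.sum_congr rfl fun j _ => congrArg (_ * ·) ?_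
    exact (resR_resR (k ≫ g) l (r j i)).trans (by rw [Category.assoc])⟩

/-- The relations between the sections are generated by given ones. -/
def RelBy {ι κ : Type*} [Fintype ι] [Fintype κ] {U : C} (s : ι → ModSite.sect M U)
    (r : κ → ι → O.obj.obj (op U)) : Prop :=
  (∀ j, ∑ i, r j i • s i = 0) ∧ ∀ ⦃V : C⦄ (g : V ⟶ U) (a : ι → O.obj.obj (op V)),
    ∑ i, a i • res M g (s i) = 0 → coefSieve g r a ∈ J V

theorem RelBy.restrict {ι κ : Type*} [Fintype ι] [Fintype κ] {U U' : C} (q : U' ⟶ U)
    {s : ι → ModSite.sect M U} {r : κ → ι → O.obj.obj (op U)} (h : RelBy s r) :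
    RelBy (fun i => res M q (s i)) fun j i => resR q (r j i) := by
  refine ⟨fun j => ?_, fun V g a ha => ?_⟩
  · rw [← res_sum, h.1 j, map_zero]
  · refine J.superset_covering ?_ (h.2 (g ≫ q) a (by simpa only [res_res] using ha))
    rintro W k ⟨c, hc⟩
    refine ⟨c, fun i => (hc i).trans (Finset.sum_congr rfl fun j _ => congrArg (_ * ·) ?_)⟩
    exact ((resR_resR q (k ≫ g) (r j i)).trans (by rw [Category.assoc])).symm

/-- Finitely many sections generate. -/
def FG (M : ModSite.Mod O) (U : C) : Prop :=
  ∃ (ι : Type) (_ : Fintype ι) (s : ι → ModSite.sect M U), GenBy s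

/-- Finitely many sections generate with finitely many relations. -/
def FP (M : ModSite.Mod O) (U : C) : Prop :=
  ∃ (ι κ : Type) (_ : Fintype ι) (_ : Fintype κ) (s : ι → ModSite.sect M U) (r : κ → ι → O.obj.obj (op U)),
    GenBy s ∧ RelBy s r

theorem FP.fg {U : C} (h : FP M U) : FG M U := by
  obtain ⟨ι, _, hι, _, s, _, hs, _⟩ := h
  exact ⟨ι, hι, s, hs⟩

theorem FG.restrict {U U' : C} (q : U' ⟶ U) (h : FG M U) : FG M U' := by
  obtain ⟨ι, _, s, hs⟩ := h
  exact ⟨ι, ‹_›, _, hs.restrict q⟩

theorem FP.restrict {U U' : C} (q : U' ⟶ U) (h : FP M U) : FP M U' := by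
  obtain ⟨ι, κ, _, _, s, r, hs, hr⟩ := h
  exact ⟨ι, κ, ‹_›, ‹_›, _, _, hs.restrict q, hr.restrict q⟩

/-- Where the module is finitely generated. -/
def fgSieve (M : ModSite.Mod O) (X : C) : Sieve X where
  arrows U _ := FG M U
  downward_closed h k := h.restrict k

/-- Where the module is finitely presented. -/
def fpSieve (M : ModSite.Mod O) (X : C) : Sieve X where
  arrows U _ := FP M U
  downward_closed h k := h.restrict k

variable (O) in
/-- The free module on a slice. -/
abbrev Fr (U : C) (I : Type u) : ModSite.Mod (O.over U) := SheafOfModules.free (R := (ModSite.ringSh O).over U) I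

variable (O) in
/-- The basis at an object of the slice. -/
abbrev bas {U : C} {I : Type u} (W : Over U) (i : I) : ModSite.sect (Fr O U I) W :=
  GlobFree25.e ((ModSite.ringSh O).over U) (X := W) i

section slice

variable {U : C} {I : Type u} {P : ModSite.Mod (O.over U)}

theorem res_bas {W W' : Over U} (k : W' ⟶ W) (i : I) : res (Fr O U I) k (bas O W i) = bas O W' i :=
  (SheafOfModules.freeSection (R := (ModSite.ringSh O).over U) i).2 k.op

theorem mp_bas (π : Fr O U I ⟶ P) (W : Over U) (i : I) :
    mp π W (bas O W i) = res P (Over.homMk W.hom : W ⟶ Over.mk (𝟙 U)) (mp π (Over.mk (𝟙 U)) (bas O _ i)) := by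
  rw [← mp_res, res_bas]

theorem exists_eq_sum_bas [Fintype I] {W : Over U} (x : ModSite.sect (Fr O U I) W) :
    ∃ a : I → O.obj.obj (op W.left), x = ∑ i, (show (O.over U).obj.obj (op W) from a i) • bas O W i :=
  exists_eq_sum_freeSection (R := (ModSite.ringSh O).over U) W x

theorem coef_unique [Fintype I] {W : Over U} {a b : I → (O.over U).obj.obj (op W)}
    (h : ∑ i, a i • bas O W i = ∑ i, b i • bas O W i) : a = b := by
  classical
  funext j
  let π : Fr O U I ⟶ ModSite.unit (O.over U) :=
    GlobFree25.descTop ((ModSite.ringSh O).over U) Over.mkIdTerminal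
      fun i => (if i = j then (1 : O.obj.obj (op U)) else 0)
  have hπ : ∀ i, mp π W (bas O W i) = (if i = j then (1 : O.obj.obj (op W.left)) else 0) := fun i => by
    rw [mp_bas]
    refine (congrArg _ (GlobFree25.descTop_e ((ModSite.ringSh O).over U) Over.mkIdTerminal _ i)).trans ?_
    change (O.obj.map W.hom.op).hom (if i = j then (1 : O.obj.obj (op U)) else 0) = _
    split <;> simp
  have h' := congrArg (mp π W) h
  rw [mp_sum, mp_sum] at h'
  simp only [hπ] at h'
  have key : ∀ c : I → (O.over U).obj.obj (op W),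
      (∑ i, (c i • (show ModSite.sect (ModSite.unit (O.over U)) W from
        if i = j then (1 : O.obj.obj (op W.left)) else 0))) = c j := fun c => by
    rw [Finset.sum_eq_single j (fun i _ hi => by rw [if_neg hi]; exact smul_zero _) (fun hj => absurd (Finset.mem_univ j) hj),
      if_pos rfl]
    exact mul_one (c j : O.obj.obj (op W.left))
  exact (key a).symm.trans (h'.trans (key b))

/-- Transfer a covering sieve from a slice. -/
theorem mem_of_over {W : Over U} {S : Sieve W} (hS : S ∈ J.over U W) {T : Sieve W.left}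
    (h : ∀ ⦃W' : Over U⦄ (k : W' ⟶ W), S k → T k.left) : T ∈ J W.left := by
  refine J.superset_covering ?_ ((J.mem_over_iff S).1 hS)
  intro Z f hf
  exact h _ ((Sieve.overEquiv_iff S f).1 hf)

/-- Transfer a covering sieve to a slice. -/
theorem mem_over {W : Over U} {S : Sieve W.left} (hS : S ∈ J W.left) {T : Sieve W}
    (h : ∀ ⦃W' : Over U⦄ (k : W' ⟶ W), S k.left → T k) : T ∈ J.over U W := by
  refine (J.over U).superset_covering ?_ (J.overEquiv_symm_mem_over W S hS)
  intro W' k hk
  exact h k ((Sieve.overEquiv_symm_iff S k).1 hk)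

end slice

section bridge

variable {U : C} {I : Type u} (π : Fr O U I ⟶ (ModSite.restr O U).obj M)

/-- The values of a map out of a free module. -/
def vals (i : I) : ModSite.sect M U := mp π (Over.mk (𝟙 U)) (bas O _ i)

theorem mp_sum_bas [Fintype I] (W : Over U) (a : I → O.obj.obj (op W.left)) :
    (show ModSite.sect M W.left from
      mp π W (∑ i, (show (O.over U).obj.obj (op W) from a i) • bas O W i)) =
      ∑ i, a i • res M W.hom (vals π i) := by
  rw [mp_sum]
  refine Finset.sum_congr rfl fun i _ => ?_
  rw [mp_bas]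
  rfl

theorem genBy_vals [Fintype I] [Epi π] : GenBy (vals π) := fun V g t => by
  refine mem_of_over (liftSieve_mem π (U := Over.mk g) t) ?_
  rintro W k ⟨x, hx⟩
  obtain ⟨a, rfl⟩ := exists_eq_sum_bas x
  refine ⟨a, ?_⟩
  rw [show k.left ≫ g = W.hom from Over.w k]
  exact hx.symm.trans (mp_sum_bas π W a)

theorem epi_of_genBy [Fintype I] (h : GenBy (vals π)) : Epi π := by
  refine epi_of_locSurj π fun W t => mem_over (h W.hom t) ?_
  rintro W' k ⟨a, ha⟩
  refine ⟨∑ i, (show (O.over U).obj.obj (op W') from a i) • bas O W' i, ?_⟩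
  refine (mp_sum_bas π W' a).trans (Eq.trans ?_ ha.symm)
  rw [show k.left ≫ W.hom = W'.hom from Over.w k]

theorem relBy_vals [Fintype I] [Epi π] {K : Type u} [Fintype K] (ρ : Fr O U K ⟶ kernel π) [Epi ρ]
    (r : K → I → O.obj.obj (op U))
    (hr : ∀ j, mp (ρ ≫ kernel.ι π) (Over.mk (𝟙 U)) (bas O _ j) =
      ∑ i, (show (O.over U).obj.obj (op (Over.mk (𝟙 U))) from r j i) • bas O (Over.mk (𝟙 U)) i) :
    RelBy (vals π) r := by
  refine ⟨fun j => ?_, fun V g a ha => ?_⟩
  · have h1 := congrArg (mp π (Over.mk (𝟙 U))) (hr j)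
    rw [← mp_comp, Category.assoc, kernel.condition, comp_zero, mp_zero] at h1
    refine Eq.trans ?_ h1.symm
    refine Eq.trans ?_ (mp_sum_bas π (Over.mk (𝟙 U)) (r j)).symm
    exact Finset.sum_congr rfl fun i _ => congrArg _ (res_id U _).symm
  · let W : Over U := Over.mk g
    let x : ModSite.sect (Fr O U I) W := ∑ i, (show (O.over U).obj.obj (op W) from a i) • bas O W i
    have hx : mp π W x = 0 := (mp_sum_bas π W a).trans ha
    let S := ShortComplex.mk (ρ ≫ kernel.ι π) π (by rw [Category.assoc, kernel.condition, comp_zero])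
    have hS : S.Exact := by
      rw [S.exact_iff_epi_kernel_lift]
      have : kernel.lift S.g S.f S.zero = ρ := by
        rw [← cancel_mono (kernel.ι π)]
        exact kernel.lift_ι _ _ _
      rw [this]
      infer_instance
    refine mem_of_over (exists_lift_of_exact hS x hx) ?_
    rintro W' k ⟨y, hy⟩
    obtain ⟨c, rfl⟩ := exists_eq_sum_bas y
    refine ⟨c, fun i => ?_⟩
    have hk : k.left ≫ g = W'.hom := Over.w k
    have h1 : mp (ρ ≫ kernel.ι π) W' (∑ j, (show (O.over U).obj.obj (op W') from c j) • bas O W' j) =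
        ∑ i, (show (O.over U).obj.obj (op W') from ∑ j, c j * resR (O := O) W'.hom (r j i)) • bas O W' i := by
      rw [mp_sum]
      have : ∀ j, mp (ρ ≫ kernel.ι π) W' (bas O W' j) =
          ∑ i, (show (O.over U).obj.obj (op W') from resR (O := O) W'.hom (r j i)) • bas O W' i := fun j => by
        rw [mp_bas, hr, res_sum]
        exact Finset.sum_congr rfl fun i _ => congrArg₂ (· • ·) rfl (res_bas _ i)
      simp only [this, Finset.smul_sum, smul_smul]
      rw [Finset.sum_comm]
      exact Finset.sum_congr rfl fun i _ => (Finset.sum_smul).symm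
    have h2 : res (Fr O U I) k x = ∑ i, (show (O.over U).obj.obj (op W') from resR (O := O) k.left (a i)) • bas O W' i := by
      rw [res_sum]
      exact Finset.sum_congr rfl fun i _ => congrArg₂ (· • ·) rfl (res_bas _ i)
    have h3 := congrFun (coef_unique (h1.symm.trans (hy.trans h2))) i
    rw [hk]
    exact h3.symm

end bridge

theorem fg_of_generatingSections {U : C} (σ : SheafOfModules.GeneratingSections (R := (ModSite.ringSh O).over U) (M.over U))
    [σ.IsFiniteType] : FG M U := by
  obtain ⟨n, ⟨e⟩⟩ := Finite.exists_equiv_fin σ.I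
  have : Fintype σ.I := Fintype.ofFinite _
  have h := genBy_vals σ.π
  refine ⟨Fin n, inferInstance, fun i => vals σ.π (e.symm i), fun V g t => ?_⟩
  refine J.superset_covering ?_ (h g t)
  rintro W k ⟨a, ha⟩
  exact ⟨fun i => a (e.symm i), ha.trans (e.symm.sum_comp fun i => a i • res M (k ≫ g) (vals σ.π i)).symm⟩

theorem fp_of_presentation {U : C} (p : SheafOfModules.Presentation (R := (ModSite.ringSh O).over U) (M.over U))
    [p.IsFinite] : FP M U := by
  obtain ⟨n, ⟨e⟩⟩ := Finite.exists_equiv_fin p.generators.I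
  obtain ⟨m, ⟨e'⟩⟩ := Finite.exists_equiv_fin p.relations.I
  have : Fintype p.generators.I := Fintype.ofFinite _
  have : Fintype p.relations.I := Fintype.ofFinite _
  choose r hr using fun j => exists_eq_sum_bas
    (mp (p.relations.π ≫ kernel.ι p.generators.π) (Over.mk (𝟙 U)) (bas O _ j))
  have h := genBy_vals p.generators.π
  have h' := relBy_vals p.generators.π p.relations.π r hr
  refine ⟨Fin n, Fin m, inferInstance, inferInstance, fun i => vals p.generators.π (e.symm i),
    fun j i => r (e'.symm j) (e.symm i), fun V g t => ?_,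
    fun j => Eq.trans (e.symm.sum_comp fun i => r (e'.symm j) i • vals p.generators.π i) (h'.1 _), fun V g a ha => ?_⟩
  · refine J.superset_covering ?_ (h g t)
    rintro W k ⟨a, ha⟩
    exact ⟨fun i => a (e.symm i),
      ha.trans (e.symm.sum_comp fun i => a i • res M (k ≫ g) (vals p.generators.π i)).symm⟩
  · refine J.superset_covering ?_ (h'.2 g (fun i => a (e i)) ?_)
    · rintro W k ⟨c, hc⟩
      refine ⟨fun j => c (e'.symm j), fun i => ?_⟩
      have := hc (e.symm i)
      simp only [Equiv.apply_symm_apply] at this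
      exact this.trans (e'.symm.sum_comp fun j => c j * resR (k ≫ g) (r j (e.symm i))).symm
    · rw [← e.symm.sum_comp]
      simpa only [Equiv.apply_symm_apply] using ha

theorem exists_generatingSections {U : C} (h : FG M U) :
    ∃ σ : SheafOfModules.GeneratingSections (R := (ModSite.ringSh O).over U) (M.over U), σ.IsFiniteType := by
  obtain ⟨ι, _, s, hs⟩ := h
  let π : Fr O U (ULift.{u} ι) ⟶ (ModSite.restr O U).obj M :=
    GlobFree25.descTop ((ModSite.ringSh O).over U) Over.mkIdTerminal fun i => s i.down
  have hv : vals π = fun i => s i.down :=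
    funext fun i => GlobFree25.descTop_e ((ModSite.ringSh O).over U) Over.mkIdTerminal _ i
  have : Epi π := epi_of_genBy π fun V g t => by
    refine J.superset_covering ?_ (hs g t)
    rintro W k ⟨a, ha⟩
    refine ⟨fun i => a i.down, ha.trans ?_⟩
    rw [hv]
    exact (Equiv.ulift.{u}.sum_comp fun i => a i • res M (k ≫ g) (s i)).symm
  let σ : SheafOfModules.GeneratingSections (R := (ModSite.ringSh O).over U) (M.over U) :=
    { I := ULift.{u} ι, s := (M.over U).freeHomEquiv π, epi := by rw [Equiv.symm_apply_apply]; exact this }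
  exact ⟨σ, ⟨inferInstanceAs (Finite (ULift.{u} ι))⟩⟩

theorem exists_presentation {U : C} (h : FP M U) :
    ∃ p : SheafOfModules.Presentation (R := (ModSite.ringSh O).over U) (M.over U), p.IsFinite := by
  obtain ⟨ι, κ, _, _, s, r, hs, hr⟩ := h
  let π : Fr O U (ULift.{u} ι) ⟶ (ModSite.restr O U).obj M :=
    GlobFree25.descTop ((ModSite.ringSh O).over U) Over.mkIdTerminal fun i => s i.down
  have hv : ∀ i, vals π i = s i.down :=
    fun i => GlobFree25.descTop_e ((ModSite.ringSh O).over U) Over.mkIdTerminal _ i
  have : Epi π := epi_of_genBy π fun V g t => by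
    refine J.superset_covering ?_ (hs g t)
    rintro W k ⟨a, ha⟩
    refine ⟨fun i => a i.down, ha.trans ?_⟩
    simp only [hv]
    exact (Equiv.ulift.{u}.sum_comp fun i => a i • res M (k ≫ g) (s i)).symm
  let σ : SheafOfModules.GeneratingSections (R := (ModSite.ringSh O).over U) (M.over U) :=
    { I := ULift.{u} ι, s := (M.over U).freeHomEquiv π, epi := by rw [Equiv.symm_apply_apply]; exact this }
  have hσ : σ.π = π := (M.over U).freeHomEquiv.symm_apply_apply π
  have hv' : ∀ i : ULift.{u} ι, vals σ.π i = s i.down := fun i => by rw [hσ]; exact hv i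
  let ρ : Fr O U (ULift.{u} κ) ⟶ Fr O U (ULift.{u} ι) :=
    GlobFree25.descTop ((ModSite.ringSh O).over U) Over.mkIdTerminal fun j =>
      (show ModSite.sect (Fr O U (ULift.{u} ι)) (Over.mk (𝟙 U)) from
        ∑ i, (show (O.over U).obj.obj (op (Over.mk (𝟙 U))) from r j.down i.down) • bas O _ i)
  have hρ : ∀ j, mp ρ (Over.mk (𝟙 U)) (bas O _ j) =
      ∑ i, (show (O.over U).obj.obj (op (Over.mk (𝟙 U))) from r j.down i.down) • bas O _ i :=
    fun j => GlobFree25.descTop_e ((ModSite.ringSh O).over U) Over.mkIdTerminal _ j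
  have hρW : ∀ (W : Over U) (c : ULift.{u} κ → O.obj.obj (op W.left)),
      mp ρ W (∑ j, (show (O.over U).obj.obj (op W) from c j) • bas O W j) =
        ∑ i, (show (O.over U).obj.obj (op W) from ∑ j, c j * resR (O := O) W.hom (r j.down i.down)) • bas O W i := fun W c => by
    rw [mp_sum]
    have : ∀ j, mp ρ W (bas O W j) =
        ∑ i, (show (O.over U).obj.obj (op W) from resR (O := O) W.hom (r j.down i.down)) • bas O W i := fun j => by
      rw [mp_bas, hρ, res_sum]
      exact Finset.sum_congr rfl fun i _ => congrArg₂ (· • ·) rfl (res_bas _ i)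
    simp only [this, Finset.smul_sum, smul_smul]
    rw [Finset.sum_comm]
    exact Finset.sum_congr rfl fun i _ => (Finset.sum_smul).symm
  have hzero : ρ ≫ σ.π = 0 := GlobFree25.hom_ext_free _ Over.mkIdTerminal _ _ fun j => by
    change mp σ.π _ (mp ρ _ (bas O _ j)) = 0
    rw [hρ]
    refine (mp_sum_bas σ.π _ _).trans ?_
    refine Eq.trans ?_ ((Equiv.ulift.{u}.sum_comp fun i => r j.down i • s i).trans (hr.1 j.down))
    exact Finset.sum_congr rfl fun i _ => congrArg _ ((res_id U _).trans (hv' i))
  let ρ' := kernel.lift σ.π ρ hzero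
  have hepi : Epi ρ' := by
    refine epi_of_locSurj ρ' fun W z => ?_
    obtain ⟨a, ha⟩ := exists_eq_sum_bas (mp (kernel.ι σ.π) W z)
    have h0 : ∑ i, a (ULift.up i) • res M W.hom (s i) = 0 := by
      have h1 := (mp_comp (kernel.ι σ.π) σ.π W z).symm
      rw [kernel.condition, mp_zero, ha] at h1
      refine Eq.trans ?_ h1
      refine Eq.trans ?_ (mp_sum_bas σ.π W a).symm
      simp only [hv']
      exact (Equiv.ulift.{u}.sum_comp fun i => a (ULift.up i) • res M W.hom (s i)).symm
    refine mem_over (hr.2 W.hom (fun i => a (ULift.up i)) h0) ?_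
    rintro W' k ⟨c, hc⟩
    refine ⟨∑ j, (show (O.over U).obj.obj (op W') from c j.down) • bas O W' j, ?_⟩
    refine injective_of_mono (kernel.ι σ.π) W' ?_
    rw [← mp_comp, kernel.lift_ι, hρW, mp_res, ha, res_sum]
    refine Finset.sum_congr rfl fun i _ => congrArg₂ (· • ·) ?_ (res_bas _ i).symm
    refine Eq.trans ?_ (hc i.down).symm
    rw [show k.left ≫ W.hom = W'.hom from Over.w k]
    exact Equiv.ulift.{u}.sum_comp fun j => c j * resR W'.hom (r j i.down)
  let τ : SheafOfModules.GeneratingSections (kernel σ.π) :=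
    { I := ULift.{u} κ, s := (kernel σ.π).freeHomEquiv ρ', epi := by rw [Equiv.symm_apply_apply]; exact hepi }
  exact ⟨⟨σ, τ⟩, { isFiniteType_generators := ⟨inferInstanceAs (Finite (ULift.{u} ι))⟩
                   isFiniteType_relations := ⟨inferInstanceAs (Finite (ULift.{u} κ))⟩ }⟩

theorem isFiniteType_iff :
    SheafOfModules.IsFiniteType (R := ModSite.ringSh O) M ↔ ∀ X, fgSieve M X ∈ J X := by
  constructor
  · intro h X
    obtain ⟨σ, hσ⟩ := h.exists_localGeneratorsData
    refine J.superset_covering ?_ (σ.coversTop X)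
    rintro W k ⟨i, ⟨g⟩⟩
    have := hσ.isFiniteType i
    exact (fg_of_generatingSections (σ.generators i)).restrict g
  · intro h
    choose σ hσ using fun U : {U : C // FG M U} => exists_generatingSections U.2
    let d : SheafOfModules.LocalGeneratorsData.{u} (R := ModSite.ringSh O) M :=
      { I := {U : C // FG M U}, X := fun U => U.1
        coversTop := fun X => J.superset_covering (fun W k hk => ⟨⟨W, hk⟩, ⟨𝟙 W⟩⟩) (h X)
        generators := σ }
    have hd : d.IsFiniteType := { isFiniteType := fun i => hσ i }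
    exact { exists_localGeneratorsData := ⟨d, hd⟩ }

theorem isFinitePresentation_iff :
    SheafOfModules.IsFinitePresentation (R := ModSite.ringSh O) M ↔ ∀ X, fpSieve M X ∈ J X := by
  constructor
  · intro h X
    obtain ⟨q, hq⟩ := h.exists_quasicoherentData
    refine J.superset_covering ?_ (q.coversTop X)
    rintro W k ⟨i, ⟨g⟩⟩
    have := hq.isFinite_presentation i
    exact (fp_of_presentation (q.presentation i)).restrict g
  · intro h
    choose p hp using fun U : {U : C // FP M U} => exists_presentation U.2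
    let d : SheafOfModules.QuasicoherentData.{u} (R := ModSite.ringSh O) M :=
      { I := {U : C // FP M U}, X := fun U => U.1
        coversTop := fun X => J.superset_covering (fun W k hk => ⟨⟨W, hk⟩, ⟨𝟙 W⟩⟩) (h X)
        presentation := p }
    have hd : d.IsFinitePresentation := { isFinite_presentation := fun i => hp i }
    exact { exists_quasicoherentData := ⟨d, hd⟩ }

end GrothLib.SecGen25
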