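import Groth.Agent.Lib.SecGen25.Space
import Mathlib.LinearAlgebra.Matrix.NonsingularInverse

/-! # Bases of sections -/

set_option autoImplicit false
set_option linter.all false
set_option maxHeartbeats 800000
set_option backward.isDefEq.respectTransparency false
set_option backward.isDefEq.respectTransparency.types false
universe u

open CategoryTheory CategoryTheory.Limits Opposite

noncomputable section

namespace GrothLib.SecGen25

open FlatRel25

variable {C : Type u} [SmallCategory C] {J : GrothendieckTopology C} {O : Sheaf J CommRingCat.{u}}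
  {M N : ModSite.Mod O}

/-- The sections are independent on `U`. -/
def Indep {ι : Type*} [Fintype ι] {U : C} (s : ι → ModSite.sect M U) : Prop :=
  ∀ ⦃V : C⦄ (g : V ⟶ U) (a : ι → O.obj.obj (op V)), ∑ i, a i • res M g (s i) = 0 → a = 0

theorem Indep.restrict {ι : Type*} [Fintype ι] {U U' : C} (q : U' ⟶ U) {s : ι → ModSite.sect M U}
    (h : Indep s) : Indep fun i => res M q (s i) :=
  fun V g a ha => h (g ≫ q) a (by simpa only [res_res] using ha)

theorem ring_eq_zero_of_cover {U : C} {S : Sieve U} (hS : S ∈ J U) (b : O.obj.obj (op U))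
    (h : ∀ ⦃V : C⦄ (g : V ⟶ U), S g → resR g b = 0) : b = 0 :=
  eq_zero_of_cover (M := ModSite.unit O) hS h

theorem indep_of_relBy_zero {ι κ : Type*} [Fintype ι] [Fintype κ] {U : C} {s : ι → ModSite.sect M U}
    {r : κ → ι → O.obj.obj (op U)} (h : RelBy s r) (hr : ∀ j i, r j i = 0) : Indep s :=
  fun V g a ha => funext fun i => ring_eq_zero_of_cover (h.2 g a ha) (a i) fun W k ⟨c, hc⟩ => by
    rw [hc i]
    exact Finset.sum_eq_zero fun j _ => by rw [hr j i, resR, map_zero, mul_zero]

theorem Indep.relBy {ι : Type*} [Fintype ι] {U : C} {s : ι → ModSite.sect M U} (h : Indep s) :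
    RelBy s (fun (j : Empty) (_ : ι) => (j.elim : O.obj.obj (op U))) := by
  refine ⟨fun j => j.elim, fun V g a ha => J.superset_covering ?_ (J.top_mem V)⟩
  intro W k _
  refine ⟨fun j => j.elim, fun i => ?_⟩
  rw [h g a ha]
  simp [resR]

theorem coef_eq_zero {U : C} {I : Type u} {W : Over U} (T : Finset I) (a : I → O.obj.obj (op W.left))
    (h : ∑ i ∈ T, (show (O.over U).obj.obj (op W) from a i) • bas O W i = 0) {j : I} (hj : j ∈ T) : a j = 0 := by
  classical
  let π : Fr O U I ⟶ ModSite.unit (O.over U) :=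
    GlobFree25.descTop ((ModSite.ringSh O).over U) Over.mkIdTerminal
      fun i => (if i = j then (1 : O.obj.obj (op U)) else 0)
  have hπ : ∀ i, mp π W (bas O W i) = (if i = j then (1 : O.obj.obj (op W.left)) else 0) := fun i => by
    rw [mp_bas]
    refine (congrArg _ (GlobFree25.descTop_e ((ModSite.ringSh O).over U) Over.mkIdTerminal _ i)).trans ?_
    change (O.obj.map W.hom.op).hom (if i = j then (1 : O.obj.obj (op U)) else 0) = _
    split <;> simp
  have h' := congrArg (mp π W) h
  rw [map_sum, map_zero] at h'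
  simp only [mp_smul, hπ] at h'
  rw [Finset.sum_eq_single j (fun i _ hi => by rw [if_neg hi]; exact smul_zero _) (fun hj' => absurd hj hj'),
    if_pos rfl] at h'
  exact (mul_one (a j)).symm.trans h'

variable {U : C} {I : Type u}

/-- The basis of a trivialised module. -/
def isoBasis (e : (ModSite.restr O U).obj M ≅ Fr O U I) (i : I) : ModSite.sect M U := vals e.inv i

theorem genBy_isoBasis [Fintype I] (e : (ModSite.restr O U).obj M ≅ Fr O U I) : GenBy (isoBasis e) :=
  genBy_vals e.inv

theorem indep_isoBasis [Fintype I] (e : (ModSite.restr O U).obj M ≅ Fr O U I) : Indep (isoBasis e) := fun V g a ha => by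
  have h1 : mp e.inv (Over.mk g) (∑ i, (show (O.over U).obj.obj (op (Over.mk g)) from a i) • bas O (Over.mk g) i) = 0 :=
    (mp_sum_bas e.inv (Over.mk g) a).trans ha
  have h2 := congrArg (mp e.hom (Over.mk g)) h1
  rw [← mp_comp, e.inv_hom_id, mp_id, map_zero] at h2
  exact funext fun i => coef_eq_zero (W := Over.mk g) Finset.univ a h2 (Finset.mem_univ i)

/-- A basis trivialises. -/
theorem nonempty_iso {ι : Type} [Fintype ι] {t : ι → ModSite.sect M U} (hg : GenBy t) (hi : Indep t) :
    Nonempty ((ModSite.restr O U).obj M ≅ Fr O U (ULift.{u} ι)) := by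
  let π : Fr O U (ULift.{u} ι) ⟶ (ModSite.restr O U).obj M :=
    GlobFree25.descTop ((ModSite.ringSh O).over U) Over.mkIdTerminal fun i => t i.down
  have hv : ∀ i, vals π i = t i.down :=
    fun i => GlobFree25.descTop_e ((ModSite.ringSh O).over U) Over.mkIdTerminal _ i
  have : Epi π := epi_of_genBy π fun V g x => by
    refine J.superset_covering ?_ (hg g x)
    rintro W k ⟨a, ha⟩
    refine ⟨fun i => a i.down, ha.trans ?_⟩
    simp only [hv]
    exact (Equiv.ulift.{u}.sum_comp fun i => a i • res M (k ≫ g) (t i)).symm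
  have : Mono π := mono_of_injective π fun W => (injective_iff_map_eq_zero _).2 fun x hx => by
    obtain ⟨a, rfl⟩ := exists_eq_sum_bas x
    have ha : ∑ i, a (ULift.up i) • res M W.hom (t i) = 0 := by
      refine Eq.trans ?_ ((mp_sum_bas π W a).symm.trans hx)
      simp only [hv]
      exact (Equiv.ulift.{u}.sum_comp fun i => a (ULift.up i) • res M W.hom (t i)).symm
    have := hi W.hom _ ha
    exact Finset.sum_eq_zero fun i _ => by rw [show a i = 0 from congrFun this i.down]; exact zero_smul _ _
  have : IsIso π := isIso_of_mono_of_epi π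
  exact ⟨(asIso π).symm⟩

theorem fp_of_iso {ι : Type} [Fintype ι] (e : (ModSite.restr O U).obj M ≅ Fr O U (ULift.{u} ι)) : FP M U := by
  refine ⟨ι, Empty, ‹_›, inferInstance, fun i => isoBasis e (ULift.up i), _, ?_, Indep.relBy ?_⟩
  · intro V g t
    refine J.superset_covering ?_ (genBy_isoBasis e g t)
    rintro W k ⟨a, ha⟩
    exact ⟨fun i => a (ULift.up i),
      ha.trans (Equiv.ulift.{u}.sum_comp fun i => a (ULift.up i) • res M (k ≫ g) (isoBasis e (ULift.up i)))⟩
  · intro V g a ha
    have := indep_isoBasis e g (fun i => a i.down)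
      ((Equiv.ulift.{u}.sum_comp fun i => a i • res M g (isoBasis e (ULift.up i))).trans ha)
    exact funext fun i => congrFun this (ULift.up i)

/-- An epimorphism between modules with bases of the same size is injective on sections. -/
theorem eq_zero_of_bases {ι : Type*} [Fintype ι] (φ : M ⟶ N) [Epi φ] {s : ι → ModSite.sect M U}
    {t : ι → ModSite.sect N U} (hs : GenBy s) (ht : GenBy t) (hti : Indep t) {W : C} (g : W ⟶ U)
    (x : ModSite.sect M W) (hx : mp φ W x = 0) : x = 0 := by
  classical
  obtain ⟨T₁, hT₁, h₁⟩ := inter_mem (fun i => spanSieve g t (res N g (mp φ U (s i)))) fun i => ht g _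
  obtain ⟨T₂, hT₂, h₂⟩ := exists_lifts φ fun j => res N g (t j)
  refine eq_zero_of_cover (J.intersection_covering (hs g x)
    (J.intersection_covering hT₁ hT₂)) fun V k ⟨⟨a, ha⟩, hk₁, hk₂⟩ => ?_
  choose A hA using fun i => h₁ i k hk₁
  choose y hy using h₂ k hk₂
  obtain ⟨T₃, hT₃, h₃⟩ := inter_mem (fun j => spanSieve (k ≫ g) s (y j)) fun j => hs _ _
  refine eq_zero_of_cover hT₃ fun V' l hl => ?_
  choose B hB using fun j => h₃ j l hl
  let A' : Matrix ι ι (O.obj.obj (op V')) := Matrix.of fun i j => resR l (A i j)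
  let B' : Matrix ι ι (O.obj.obj (op V')) := Matrix.of B
  have hA' : ∀ i, mp φ V' (res M (l ≫ k ≫ g) (s i)) = ∑ j, A' i j • res N (l ≫ k ≫ g) (t j) := fun i => by
    have := congrArg (res N l) (hA i)
    simpa only [res_res, res_sum, mp_res, Category.assoc, A', Matrix.of_apply] using this
  have hBA : B' * A' = 1 := by
    ext j m
    have h0 : ∑ m, ((B' * A') j m - (1 : Matrix ι ι (O.obj.obj (op V'))) j m) • res N (l ≫ k ≫ g) (t m) = 0 := by
      simp only [sub_smul, Finset.sum_sub_distrib, sub_eq_zero, Matrix.one_apply, ite_smul, one_smul, zero_smul,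
        Finset.sum_ite_eq, Finset.mem_univ, if_true, Matrix.mul_apply, Finset.sum_smul, mul_smul]
      rw [Finset.sum_comm]
      simp only [← Finset.smul_sum, ← hA']
      rw [← mp_sum]
      simp only [B', Matrix.of_apply, ← hB, mp_res, hy, res_res, Category.assoc]
    exact sub_eq_zero.1 (congrFun (hti _ _ h0) m)
  have hAB : A' * B' = 1 := mul_eq_one_comm.1 hBA
  let a' : ι → O.obj.obj (op V') := fun i => resR l (a i)
  have hx' : res M l (res M k x) = ∑ i, a' i • res M (l ≫ k ≫ g) (s i) := by
    rw [ha, res_sum]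
    simp only [res_res, a']
  have h0 : Matrix.vecMul a' A' = 0 := by
    refine hti (l ≫ k ≫ g) _ ?_
    have := congrArg (mp φ V') hx'
    rw [mp_sum, mp_res, mp_res, hx, map_zero, map_zero] at this
    simp only [Matrix.vecMul, dotProduct, Finset.sum_smul, mul_smul]
    rw [Finset.sum_comm]
    simp only [← Finset.smul_sum, ← hA']
    exact this.symm
  have ha0 : a' = 0 := by
    rw [← Matrix.vecMul_one a', ← hAB, ← Matrix.vecMul_vecMul, h0, Matrix.zero_vecMul]
  rw [hx', ha0]
  simp

end GrothLib.SecGen25
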