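import Groth.Agent.Lib.SecGen25.Stalk
import Groth.Agent.Lib.PullLoc25.Pairing
import Groth.Agent.Lib.ModInv25.Basic

/-! # Invertible modules on locally ringed spaces -/

set_option autoImplicit false
set_option linter.all false
set_option maxHeartbeats 800000
set_option backward.isDefEq.respectTransparency false
set_option backward.isDefEq.respectTransparency.types false
universe u

open CategoryTheory CategoryTheory.Limits Opposite TopologicalSpace GrothLib.SheafCoh MonoidalCategory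

noncomputable section

namespace GrothLib.SecGen25

open FlatRel25

section site

variable {C : Type u} [SmallCategory C] {J : GrothendieckTopology C} {O : Sheaf J CommRingCat.{u}}
  {L N : ModSite.Mod O}

open PullLoc25

/-- Tensor sections are locally sums of products. -/
theorem exists_tm_sum {U : C} (t : ModSite.sect (((ModSite.tensorBi O).obj L).obj N) U) :
    ∃ S ∈ J U, ∀ ⦃V : C⦄ (g : V ⟶ U), S g → ∃ (k : ℕ) (a : Fin k → ModSite.sect L V) (b : Fin k → ModSite.sect N V),
      res _ g t = ∑ i, tm L N (a i) (b i) := by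
  have := isLocallySurjective_unit (O := O) ((forgetP O).obj L ⊗ (forgetP O).obj N)
  refine ⟨_, Presheaf.imageSieve_mem J
    ((PresheafOfModules.toPresheaf _).map ((shfAdj O).unit.app ((forgetP O).obj L ⊗ (forgetP O).obj N))) t,
    fun V g hg => ?_⟩
  obtain ⟨y, hy⟩ := hg
  obtain ⟨k, a, b, hab⟩ : ∃ (k : ℕ) (a : Fin k → ModSite.sect L V) (b : Fin k → ModSite.sect N V),
      ((shfAdj O).unit.app ((forgetP O).obj L ⊗ (forgetP O).obj N)).app (op V) y = ∑ i, tm L N (a i) (b i) := by
    clear hy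
    let P := (forgetP O).obj L ⊗ (forgetP O).obj N
    let φ : P.obj (op V) →+ ModSite.sect (((ModSite.tensorBi O).obj L).obj N) V :=
      AddMonoidHom.mk' (fun z => ((shfAdj O).unit.app P).app (op V) z)
        fun z z' => map_add (((shfAdj O).unit.app P).app (op V)).hom z z'
    change ∃ (k : ℕ) (a : Fin k → ModSite.sect L V) (b : Fin k → ModSite.sect N V), φ y = ∑ i, tm L N (a i) (b i)
    refine TensorProduct.induction_on (R := O.obj.obj (op V))
      (motive := fun y => ∃ (k : ℕ) (a : Fin k → ModSite.sect L V) (b : Fin k → ModSite.sect N V),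
        φ y = ∑ i, tm L N (a i) (b i))
      y ⟨0, Fin.elim0, Fin.elim0, (map_zero φ).trans (by rw [Finset.sum_of_isEmpty])⟩
      (fun a b => ⟨1, fun _ => a, fun _ => b, by rw [Fin.sum_univ_one]; rfl⟩) fun y y' ⟨k, a, b, h⟩ ⟨k', a', b', h'⟩ => ?_
    refine ⟨k + k', Fin.append a a', Fin.append b b', (map_add φ y y').trans ?_⟩
    rw [Fin.sum_univ_add]
    simp only [Fin.append_left, Fin.append_right]
    exact congrArg₂ (· + ·) h h'
  exact ⟨k, a, b, hy.symm.trans hab⟩

/-- A vanishing product vanishes locally. -/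
theorem tmul_eq_zero_locally {U : C} {a : ModSite.sect L U} {b : ModSite.sect N U} (h : tm L N a b = 0) :
    ∃ S ∈ J U, ∀ ⦃V : C⦄ (g : V ⟶ U), S g →
      ps L (res L g a) ⊗ₜ[O.obj.obj (op V)] ps N (res N g b) = 0 := by
  have := isLocallyInjective_unit (O := O) ((forgetP O).obj L ⊗ (forgetP O).obj N)
  let z : (((PresheafOfModules.toPresheaf _).obj ((forgetP O).obj L ⊗ (forgetP O).obj N))).obj (op U) :=
    ps L a ⊗ₜ[O.obj.obj (op U)] ps N b
  refine ⟨_, Presheaf.equalizerSieve_mem J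
    ((PresheafOfModules.toPresheaf _).map ((shfAdj O).unit.app ((forgetP O).obj L ⊗ (forgetP O).obj N))) z 0
    (h.trans (map_zero _).symm), fun V g hg => ?_⟩
  exact Eq.trans (show _ = (((forgetP O).obj L ⊗ (forgetP O).obj N).presheaf.map g.op) z from rfl)
    (hg.trans (map_zero _))

variable (θ : ((ModSite.tensorBi O).obj L).obj N ⟶ ModSite.unit O)

/-- The pairing. -/
def pair {V : C} (a : ModSite.sect L V) (b : ModSite.sect N V) : O.obj.obj (op V) := mp θ V (tm L N a b)

theorem pair_res {U V : C} (g : V ⟶ U) (a : ModSite.sect L U) (b : ModSite.sect N U) :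
    pair θ (res L g a) (res N g b) = resR g (pair θ a b) := by
  rw [pair, ← res_tm, mp_res]
  rfl

theorem pair_smul_left {V : C} (r : O.obj.obj (op V)) (a : ModSite.sect L V) (b : ModSite.sect N V) :
    pair θ (r • a) b = r * pair θ a b := by
  rw [pair, tm_smul_left, mp_smul]
  rfl

theorem pair_smul_right {V : C} (r : O.obj.obj (op V)) (a : ModSite.sect L V) (b : ModSite.sect N V) :
    pair θ a (r • b) = r * pair θ a b := by
  rw [pair, tm_smul_right, mp_smul]
  rfl

theorem pair_add_left {V : C} (a a' : ModSite.sect L V) (b : ModSite.sect N V) :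
    pair θ (a + a') b = pair θ a b + pair θ a' b := by
  rw [pair, tm_add_left, map_add]
  rfl

theorem pair_add_right {V : C} (a : ModSite.sect L V) (b b' : ModSite.sect N V) :
    pair θ a (b + b') = pair θ a b + pair θ a b' := by
  rw [pair, tm_add_right, map_add]
  rfl

/-- A section paired to one generates freely. -/
theorem eq_pair_smul [Mono θ] {U : C} (l : ModSite.sect L U) (n : ModSite.sect N U) (h : pair θ l n = 1)
    {V : C} (g : V ⟶ U) (y : ModSite.sect L V) : y = pair θ y (res N g n) • res L g l := by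
  let e : ModSite.sect L V := y + (-pair θ y (res N g n)) • res L g l
  suffices he : e = 0 by
    have h' : e = y - pair θ y (res N g n) • res L g l := by rw [sub_eq_add_neg, ← neg_smul]
    exact sub_eq_zero.1 (h'.symm.trans he)
  have h0 : pair θ e (res N g n) = 0 := by
    rw [pair_add_left, pair_smul_left, pair_res, h, resR, map_one, mul_one, add_neg_cancel]
  obtain ⟨S, hS, hS'⟩ := tmul_eq_zero_locally (injective_of_mono θ V (h0.trans (map_zero (mp θ V)).symm))
  refine eq_zero_of_cover hS fun W k hk => ?_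
  let β : ((forgetP O).obj L).obj (op W) →ₗ[O.obj.obj (op W)] ((forgetP O).obj N).obj (op W) →ₗ[O.obj.obj (op W)]
      ((forgetP O).obj L).obj (op W) :=
    LinearMap.mk₂ (O.obj.obj (op W)) (fun a b => pair θ (res L (k ≫ g) l) b • ps L a)
      (fun a a' b => smul_add _ _ _) (fun c a b => smul_comm _ _ _)
      (fun a b b' => (congrArg (· • ps L a) (pair_add_right θ _ b b')).trans (add_smul _ _ _))
      (fun c a b => (congrArg (· • ps L a) (pair_smul_right θ c _ b)).trans (mul_smul _ _ _))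
  have h1 := congrArg (TensorProduct.lift β) (hS' k hk)
  rw [map_zero] at h1
  refine Eq.trans ?_ h1
  refine Eq.trans ?_ (TensorProduct.lift.tmul _ _).symm
  change res L k e = pair θ (res L (k ≫ g) l) (res N k (res N g n)) • res L k e
  rw [res_res, pair_res, h, resR, map_one, one_smul]

theorem genBy_single [Mono θ] {U : C} {l : ModSite.sect L U} {n : ModSite.sect N U} (h : pair θ l n = 1) :
    GenBy (fun _ : Unit => l) ∧ Indep (fun _ : Unit => l) := by
  refine ⟨fun V g t => J.superset_covering ?_ (J.top_mem V), fun V g a ha => ?_⟩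
  · intro W k _
    refine ⟨fun _ => pair θ (res L k t) (res N (k ≫ g) n), ?_⟩
    rw [Fintype.sum_unique]
    exact eq_pair_smul θ l n h (k ≫ g) _
  · rw [Fintype.sum_unique] at ha
    have := congrArg (fun z => pair θ z (res N g n)) ha
    simp only [pair_smul_left, pair_res, h, resR, map_one, mul_one] at this
    refine funext fun _ => this.trans ?_
    rw [← zero_smul (O.obj.obj (op V)) (res L g l), pair_smul_left, zero_mul]
    rfl

end site

variable {X : TopCat.{u}} {O : TopCat.Sheaf CommRingCat.{u} X} {L : ModSite.Mod O}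

local notation "pt" => Opens.pointGrothendieckTopology

theorem exists_isUnit_nhd {x : X} {U : Opens X} (hx : x ∈ U) (a : O.obj.obj (op U))
    (ha : IsUnit (ModSite.germRing (pt x) U ⟨⟨hx⟩⟩ a)) :
    ∃ (V : Opens X) (g : V ⟶ U), x ∈ V ∧ IsUnit (resR g a) := by
  obtain ⟨b, hb⟩ := ha.exists_right_inv
  obtain ⟨Y, g, y, -, c, hy, -, hc⟩ := exists_common_nhd (pt x) (X := U) ⟨⟨hx⟩⟩ (F := ModSite.unit O)
    (fun e : Empty => e.elim) (fun _ : Unit => b)
  obtain ⟨Z, f, z, -, hz⟩ := exists_resR_eq (pt x) y (fun _ : Unit => resR g a * c ()) (fun _ => 1) fun _ => by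
    refine (map_mul ((pt x).toPresheafFiber Y y O.obj).hom _ _).trans (Eq.trans ?_ (map_one ((pt x).toPresheafFiber Y y O.obj).hom).symm)
    refine Eq.trans (congrArg₂ (· * ·) ((germRing_res (pt x) g y a).trans (by rw [hy])) (hc ())) hb
  refine ⟨Z, f ≫ g, z.down.down, IsUnit.of_mul_eq_one (resR f (c ())) ?_⟩
  have := hz ()
  simp only [resR, map_mul, map_one] at this
  exact ((congrArg (· * _) (resR_resR g f a)).symm.trans this)

theorem exists_basis (hO : ∀ x : X, IsLocalRing (ModSite.stalkRing (pt x) O))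
    (hL : ((ModSite.tensorBi O).obj L).IsEquivalence) (x : X) :
    ∃ (U : Opens X) (l : ModSite.sect L U), x ∈ U ∧ GenBy (fun _ : Unit => l) ∧ Indep (fun _ : Unit => l) := by
  let N := ((ModSite.tensorBi O).obj L).objPreimage (ModSite.unit O)
  let e := ((ModSite.tensorBi O).obj L).objObjPreimageIso (ModSite.unit O)
  let one : ModSite.sect (ModSite.unit O) ⊤ := (1 : O.obj.obj (op ⊤))
  obtain ⟨S, hS, hS'⟩ := exists_tm_sum (mp e.inv ⊤ one)
  obtain ⟨V, g, hg, hxV⟩ := hS x trivial
  obtain ⟨k, a, b, hab⟩ := hS' g hg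
  have h1 : ∑ i, pair e.hom (a i) (b i) = 1 := by
    have := congrArg (mp e.hom V) hab
    rw [mp_res, ← mp_comp, e.inv_hom_id, mp_id, map_sum] at this
    exact this.symm.trans (map_one (O.obj.map g.op).hom)
  have := hO x
  obtain ⟨i, hi⟩ : ∃ i, IsUnit (ModSite.germRing (pt x) V ⟨⟨hxV⟩⟩ (pair e.hom (a i) (b i))) := by
    by_contra hne
    push Not at hne
    have hmem : ModSite.germRing (pt x) V ⟨⟨hxV⟩⟩ (∑ i, pair e.hom (a i) (b i)) ∈
        IsLocalRing.maximalIdeal (ModSite.stalkRing (pt x) O) := by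
      rw [show ModSite.germRing (pt x) V ⟨⟨hxV⟩⟩ (∑ i, pair e.hom (a i) (b i)) =
        ∑ i, ModSite.germRing (pt x) V ⟨⟨hxV⟩⟩ (pair e.hom (a i) (b i)) from map_sum ((pt x).toPresheafFiber V _ O.obj).hom _ _]
      exact Ideal.sum_mem _ fun i _ => (IsLocalRing.mem_maximalIdeal _).2 (hne i)
    rw [h1] at hmem
    exact ((Ideal.ne_top_iff_one _).1 (IsLocalRing.maximalIdeal.isMaximal _).ne_top)
      ((congrArg (· ∈ IsLocalRing.maximalIdeal (ModSite.stalkRing (pt x) O))
        (map_one ((pt x).toPresheafFiber V ⟨⟨hxV⟩⟩ O.obj).hom)).mp hmem)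
  obtain ⟨W, f, hxW, hu⟩ := exists_isUnit_nhd hxV _ hi
  obtain ⟨c, hc⟩ := hu.exists_right_inv
  refine ⟨W, res L f (a i), hxW, genBy_single e.hom (n := c • res N f (b i)) ?_⟩
  rw [pair_smul_right, pair_res, mul_comm, hc]

theorem open_and_bijective (hO : ∀ x : X, IsLocalRing (ModSite.stalkRing (pt x) O))
    (hL : ((ModSite.tensorBi O).obj L).IsEquivalence) (U : Opens X) (s : ModSite.sect L U) :
    IsOpen {x : X | ∃ hx : x ∈ U, ModSite.germ (pt x) L U ⟨⟨hx⟩⟩ s ∉
        (@IsLocalRing.maximalIdeal (ModSite.stalkRing (pt x) O) _ (hO x)) •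
          (⊤ : Submodule (ModSite.stalkRing (pt x) O) (ModSite.stalkAb (pt x) L))} ∧
      ∀ (x : X) (hx : x ∈ U), ModSite.germ (pt x) L U ⟨⟨hx⟩⟩ s ∉
          (@IsLocalRing.maximalIdeal (ModSite.stalkRing (pt x) O) _ (hO x)) •
            (⊤ : Submodule (ModSite.stalkRing (pt x) O) (ModSite.stalkAb (pt x) L)) →
        Function.Bijective (fun a : ModSite.stalkRing (pt x) O => a • ModSite.germ (pt x) L U ⟨⟨hx⟩⟩ s) := by
  -- locally `s = a • l`
  have key : ∀ x ∈ U, ∃ (W : Opens X) (k : W ⟶ U) (hxW : x ∈ W) (a : O.obj.obj (op W)) (l : ModSite.sect L W),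
      GenBy (fun _ : Unit => l) ∧ Indep (fun _ : Unit => l) ∧ res L k s = a • l := fun x hx => by
    obtain ⟨V, l, hxV, hg, hi⟩ := exists_basis hO hL x
    obtain ⟨W, k, ⟨a, ha⟩, hxW⟩ := hg (homOfLE inf_le_right : U ⊓ V ⟶ V) (res L (homOfLE inf_le_left) s) x ⟨hx, hxV⟩
    refine ⟨W, k ≫ homOfLE inf_le_left, hxW, a (), _, hg.restrict (k ≫ homOfLE inf_le_right),
      hi.restrict (k ≫ homOfLE inf_le_right), ?_⟩
    rw [← res_res, ha, Fintype.sum_unique]
  -- the criterion
  have crit : ∀ {W : Opens X} (k : W ⟶ U) {x : X} (hxW : x ∈ W) {a : O.obj.obj (op W)} {l : ModSite.sect L W},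
      GenBy (fun _ : Unit => l) → Indep (fun _ : Unit => l) → res L k s = a • l →
      (ModSite.germ (pt x) L U ⟨⟨k.le hxW⟩⟩ s ∉ (@IsLocalRing.maximalIdeal (ModSite.stalkRing (pt x) O) _ (hO x)) •
          (⊤ : Submodule (ModSite.stalkRing (pt x) O) (ModSite.stalkAb (pt x) L)) ↔
        IsUnit (ModSite.germRing (pt x) W ⟨⟨hxW⟩⟩ a)) ∧
      (IsUnit (ModSite.germRing (pt x) W ⟨⟨hxW⟩⟩ a) →
        Function.Bijective (fun b : ModSite.stalkRing (pt x) O => b • ModSite.germ (pt x) L U ⟨⟨k.le hxW⟩⟩ s)) := by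
    intro W k x hxW a l hg hi he
    have := hO x
    let gl := ModSite.germ (pt x) L W ⟨⟨hxW⟩⟩ l
    let ga := ModSite.germRing (pt x) W ⟨⟨hxW⟩⟩ a
    have hs : ModSite.germ (pt x) L U ⟨⟨k.le hxW⟩⟩ s = ga • gl :=
      (germ_res (pt x) k ⟨⟨hxW⟩⟩ s).symm.trans ((congrArg (ModSite.germ (pt x) L W ⟨⟨hxW⟩⟩) he).trans
        (ModSite.germ_smul _ _ _ _ _ _))
    have hspan : ∀ m : ModSite.stalkAb (pt x) L, ∃ c : ModSite.stalkRing (pt x) O, m = c • gl := fun m => by
      obtain ⟨c, hc⟩ := exists_germ_eq_sum hxW hg m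
      exact ⟨c (), hc.trans (Fintype.sum_unique _)⟩
    have hinj : ∀ c : ModSite.stalkRing (pt x) O, c • gl = 0 → c = 0 := fun c hc =>
      congrFun (coef_zero_of_germ hxW hi (fun _ => c) ((Fintype.sum_unique _).trans hc)) ()
    refine ⟨⟨fun h => ?_, fun hu hm => ?_⟩, fun hu => ?_⟩
    · by_contra hna
      exact h (hs ▸ Submodule.smul_mem_smul ((IsLocalRing.mem_maximalIdeal _).2 hna) Submodule.mem_top)
    · obtain ⟨c, hc, hce⟩ : ∃ c ∈ IsLocalRing.maximalIdeal (ModSite.stalkRing (pt x) O),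
          ModSite.germ (pt x) L U ⟨⟨k.le hxW⟩⟩ s = c • gl := by
        refine Submodule.smul_induction_on hm (fun r hr m _ => ?_) fun y z ⟨c, hc, hy⟩ ⟨c', hc', hz⟩ =>
          ⟨c + c', add_mem hc hc', by rw [hy, hz, add_smul]⟩
        obtain ⟨d, rfl⟩ := hspan m
        exact ⟨r * d, Ideal.mul_mem_right _ _ hr, (mul_smul _ _ _).symm⟩
      have := sub_eq_zero.1 (hinj (ga - c) (by rw [sub_smul, ← hs, hce, sub_self]))
      exact (IsLocalRing.mem_maximalIdeal _).1 hc (this ▸ hu)
    · refine ⟨fun b b' hb => ?_, fun m => ?_⟩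
      · have hb' : b • ga • gl = b' • ga • gl := by rw [← hs]; exact hb
        rw [← mul_smul, ← mul_smul, ← sub_eq_zero, ← sub_smul] at hb'
        exact hu.mul_right_cancel (sub_eq_zero.1 (hinj _ hb'))
      · obtain ⟨c, rfl⟩ := hspan m
        obtain ⟨v, hv⟩ := hu.exists_left_inv
        refine ⟨c * v, ?_⟩
        change (c * v) • _ = _
        rw [hs, ← mul_smul, mul_assoc, hv, mul_one]
  refine ⟨isOpen_iff_forall_mem_open.2 fun x ⟨hx, hxs⟩ => ?_, fun x hx hxs => ?_⟩
  · obtain ⟨W, k, hxW, a, l, hg, hi, he⟩ := key x hx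
    obtain ⟨W', f, hxW', hu⟩ := exists_isUnit_nhd hxW a ((crit k hxW hg hi he).1.1 hxs)
    refine ⟨W', fun y hy => ⟨k.le (f.le hy), ?_⟩, W'.isOpen, hxW'⟩
    refine (crit k (f.le hy) hg hi he).1.2 ?_
    rw [show (⟨⟨f.le hy⟩⟩ : (pt y).fiber.obj W) = (pt y).fiber.map f ⟨⟨hy⟩⟩ from rfl, ← germRing_res]
    exact hu.map ((pt y).toPresheafFiber W' _ O.obj).hom
  · obtain ⟨W, k, hxW, a, l, hg, hi, he⟩ := key x hx
    exact (crit k hxW hg hi he).2 ((crit k hxW hg hi he).1.1 hxs)

end GrothLib.SecGen25
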