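import Groth.Agent.Lib.SecGen25.Data

/-! # Operations on finitely generated and presented modules -/

set_option autoImplicit false
set_option linter.all false
set_option maxHeartbeats 800000
set_option backward.isDefEq.respectTransparency false
set_option backward.isDefEq.respectTransparency.types false
universe u

open CategoryTheory CategoryTheory.Limits Opposite

noncomputable section

namespace GrothLib.SecGen25

open FlatRel25

variable {C : Type u} [SmallCategory C] {J : GrothendieckTopology C} {O : Sheaf J CommRingCat.{u}}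
  {L M N : ModSite.Mod O}

/-- Finitely many coverings have a common refinement. -/
theorem inter_mem {ι : Type*} [Finite ι] {U : C} (S : ι → Sieve U) (h : ∀ i, S i ∈ J U) :
    ∃ T ∈ J U, ∀ i, T ≤ S i := by
  classical
  cases nonempty_fintype ι
  suffices ∀ s : Finset ι, ∃ T ∈ J U, ∀ i ∈ s, T ≤ S i by
    obtain ⟨T, hT, h'⟩ := this Finset.univ
    exact ⟨T, hT, fun i => h' i (Finset.mem_univ i)⟩
  intro s
  induction s using Finset.induction with
  | empty => exact ⟨⊤, J.top_mem U, fun i hi => absurd hi (Finset.notMem_empty i)⟩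
  | insert a s _ ih =>
    obtain ⟨T, hT, h'⟩ := ih
    refine ⟨S a ⊓ T, J.intersection_covering (h a) hT, fun i hi => ?_⟩
    rcases Finset.mem_insert.1 hi with rfl | hi
    · exact inf_le_left
    · exact inf_le_right.trans (h' i hi)

/-- A covering sieve may be refined at each member. -/
theorem cover_trans {U : C} {S : Sieve U} (hS : S ∈ J U) {R : Sieve U}
    (h : ∀ ⦃V : C⦄ (g : V ⟶ U), S g → ∃ T ∈ J V, ∀ ⦃W : C⦄ (k : W ⟶ V), T k → R (k ≫ g)) : R ∈ J U :=
  J.transitive hS R fun V g hg => by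
    obtain ⟨T, hT, hR⟩ := h g hg
    exact J.superset_covering (fun W k hk => hR k hk) hT

/-- Generators of an extension. -/
theorem GenBy.ext {S : ShortComplex (ModSite.Mod O)} (hS : S.Exact) {ι κ : Type*} [Fintype ι] [Fintype κ] {U : C}
    {s : ι → ModSite.sect S.X₁ U} (hs : GenBy s) (t : κ → ModSite.sect S.X₂ U)
    (ht : GenBy fun j => mp S.g U (t j)) : GenBy (Sum.elim (fun i => mp S.f U (s i)) t) := fun V g x => by
  refine cover_trans (ht g (mp S.g V x)) fun W k ⟨a, ha⟩ => ?_
  let y : ModSite.sect S.X₂ W := res S.X₂ k x - ∑ j, a j • res S.X₂ (k ≫ g) (t j)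
  have hy : mp S.g W y = 0 := by
    rw [map_sub, mp_sum, mp_res, ha, sub_eq_zero]
    simp only [mp_res]
  refine ⟨_, J.bind_covering (exists_lift_of_exact hS y hy) (R := fun {W'} l (hl : (liftSieve S.f y).arrows l) =>
    spanSieve (l ≫ k ≫ g) s hl.choose) (fun W' l hl => hs _ _), fun W'' n hn => ?_⟩
  obtain ⟨W', n', l, hl, ⟨b, hb⟩, rfl⟩ := hn
  refine ⟨Sum.elim b (fun j => resR (n' ≫ l) (a j)), ?_⟩
  have h1 := congrArg (mp S.f W'') hb
  rw [mp_res, hl.choose_spec, mp_sum, res_res, map_sub, res_sum, res_res, sub_eq_iff_eq_add] at h1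
  simp only [Fintype.sum_sum_type, Sum.elim_inl, Sum.elim_inr, ← res_res, Category.assoc]
  simpa only [mp_res, res_res, Category.assoc] using h1

/-- Where a map is locally surjective between finitely generated modules. -/
theorem epi_restr_of_lift {U : C} {ι : Type*} [Fintype ι] (φ : M ⟶ N) {s : ι → ModSite.sect N U} (hs : GenBy s)
    (t : ι → ModSite.sect M U) (ht : ∀ i, mp φ U (t i) = s i) : Epi ((ModSite.restr O U).map φ) := by
  refine epi_of_locSurj _ fun W x => mem_over (hs W.hom x) ?_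
  rintro W' k ⟨a, ha⟩
  refine ⟨(show ModSite.sect M W'.left from ∑ i, a i • res M W'.hom (t i)), ?_⟩
  change mp φ W'.left (∑ i, a i • res M W'.hom (t i)) = res N k.left x
  rw [ha, mp_sum]
  simp only [mp_res, ht, show k.left ≫ W.hom = W'.hom from Over.w k]

/-- Where the sections lift. -/
theorem exists_lifts {U : C} {ι : Type*} [Finite ι] (φ : M ⟶ N) [Epi φ] (s : ι → ModSite.sect N U) :
    ∃ T ∈ J U, ∀ ⦃V : C⦄ (g : V ⟶ U), T g → ∀ i, ∃ x : ModSite.sect M V, mp φ V x = res N g (s i) := by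
  obtain ⟨T, hT, h⟩ := inter_mem (fun i => liftSieve φ (s i)) fun i => liftSieve_mem φ (s i)
  exact ⟨T, hT, fun V g hg i => h i g hg⟩

/-- Relations between new generators of a finitely presented module. -/
theorem exists_relBy {U : C} {ι κ ι' : Type} [Fintype ι] [Fintype κ] [Fintype ι'] {s : ι → ModSite.sect M U}
    {r : κ → ι → O.obj.obj (op U)} (hs : GenBy s) (hr : RelBy s r) {s' : ι' → ModSite.sect M U} (hs' : GenBy s') :
    ∃ T ∈ J U, ∀ ⦃V : C⦄ (g : V ⟶ U), T g →
      ∃ r' : κ ⊕ ι' → ι' → O.obj.obj (op V), RelBy (fun k => res M g (s' k)) r' := by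
  classical
  obtain ⟨T, hT, hT'⟩ := inter_mem (fun i => spanSieve (𝟙 U) s' (s i)) fun i => hs' (𝟙 U) (s i)
  obtain ⟨T₂, hT₂, hT₂'⟩ := inter_mem (fun k => spanSieve (𝟙 U) s (s' k)) fun k => hs (𝟙 U) (s' k)
  refine ⟨T ⊓ T₂, J.intersection_covering hT hT₂, fun V g hg => ?_⟩
  choose A hA using fun i => hT' i g hg.1
  choose B hB using fun k => hT₂' k g hg.2
  simp only [Category.comp_id] at hA hB
  refine ⟨Sum.elim (fun j k => ∑ i, resR g (r j i) * A i k)
    (fun k' k => (if k = k' then 1 else 0) - ∑ i, B k' i * A i k), ?_, fun W q a ha => ?_⟩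
  · rintro (j | k')
    · simp only [Sum.elim_inl, Finset.sum_smul, mul_smul]
      rw [Finset.sum_comm]
      simp only [← Finset.smul_sum, ← hA]
      rw [← res_sum, hr.1 j, map_zero]
    · simp only [Sum.elim_inr, sub_smul, Finset.sum_sub_distrib, Finset.sum_smul, mul_smul]
      rw [Finset.sum_comm]
      simp only [← Finset.smul_sum, ← hA, ite_smul, one_smul, zero_smul]
      rw [← hB, Finset.sum_ite_eq' Finset.univ k' fun k => res M g (s' k), if_pos (Finset.mem_univ _), sub_self]
  · let b : ι → O.obj.obj (op W) := fun i => ∑ k, a k * resR q (B k i)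
    have hb : ∑ i, b i • res M (q ≫ g) (s i) = 0 := by
      refine Eq.trans ?_ ha
      simp only [b, Finset.sum_smul, mul_smul]
      rw [Finset.sum_comm]
      refine Finset.sum_congr rfl fun k _ => ?_
      rw [← Finset.smul_sum]
      congr 1
      rw [hB k, res_sum]
      exact Finset.sum_congr rfl fun i _ => by rw [res_res]
    refine J.superset_covering ?_ (hr.2 (q ≫ g) b hb)
    rintro W' l ⟨c, hc⟩
    refine ⟨Sum.elim c (fun k' => resR l (a k')), fun k => ?_⟩
    simp only [Fintype.sum_sum_type, Sum.elim_inl, Sum.elim_inr, resR, map_sub, map_sum, map_mul, mul_sub,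
      Finset.sum_sub_distrib, Finset.mul_sum]
    rw [Finset.sum_eq_single k (fun k' _ hk => by rw [if_neg (Ne.symm hk), map_zero, mul_zero])
      (fun hk => absurd (Finset.mem_univ k) hk), if_pos rfl, map_one, mul_one]
    have key : ∀ i, ∑ j, c j * (O.obj.map (l ≫ q).op).hom ((O.obj.map g.op).hom (r j i)) =
        ∑ k', (O.obj.map l.op).hom (a k') * (O.obj.map (l ≫ q).op).hom (B k' i) := fun i => by
      have := hc i
      simp only [b, resR, map_sum, map_mul] at this
      refine Eq.trans (Finset.sum_congr rfl fun j _ => congrArg (_ * ·) ?_)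
        (this.symm.trans (Finset.sum_congr rfl fun k' _ => congrArg (_ * ·) ?_))
      · exact (resR_resR g (l ≫ q) (r j i)).trans (by rw [Category.assoc])
      · exact resR_resR q l (B k' i)
    have h1 : ∑ j, ∑ i, c j * ((O.obj.map (l ≫ q).op).hom ((O.obj.map g.op).hom (r j i)) * (O.obj.map (l ≫ q).op).hom (A i k)) =
        ∑ k', ∑ i, (O.obj.map l.op).hom (a k') * ((O.obj.map (l ≫ q).op).hom (B k' i) * (O.obj.map (l ≫ q).op).hom (A i k)) := by
      refine Finset.sum_comm.trans (Eq.trans (Finset.sum_congr rfl fun i _ => ?_) Finset.sum_comm)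
      simp only [← mul_assoc, ← Finset.sum_mul, key i]
    rw [h1]
    abel

/-- The kernel of an epimorphism onto a finitely presented module. -/
theorem genBy_kernel {S : ShortComplex (ModSite.Mod O)} (hS : S.Exact) [Mono S.f] {U : C} {ι κ : Type}
    [Fintype ι] [Fintype κ] {g : ι → ModSite.sect S.X₂ U} (hg : GenBy g) {r : κ → ι → O.obj.obj (op U)}
    (hr : RelBy (fun i => mp S.g U (g i)) r) :
    ∃ T ∈ J U, ∀ ⦃V : C⦄ (h : V ⟶ U), T h → ∃ z : κ → ModSite.sect S.X₁ V, GenBy z := by
  obtain ⟨T, hT, hT'⟩ := inter_mem (fun j => liftSieve S.f (∑ i, r j i • g i))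
    fun j => exists_lift_of_exact hS _ ((mp_sum S.g _ _).trans (hr.1 j))
  refine ⟨T, hT, fun V h hh => ?_⟩
  choose z hz using fun j => hT' j h hh
  refine ⟨z, fun W q x => cover_trans (hg (q ≫ h) (mp S.f W x)) fun W' k ⟨a, ha⟩ => ?_⟩
  have h0 : ∑ i, a i • res S.X₃ (k ≫ q ≫ h) (mp S.g U (g i)) = 0 := by
    have h1 := congrArg (mp S.g W') ha
    rw [mp_res, ← mp_comp, S.zero, mp_zero, map_zero, mp_sum] at h1
    refine Eq.trans ?_ h1.symm
    simp only [mp_res]
  refine ⟨_, hr.2 (k ≫ q ≫ h) a h0, fun W'' l ⟨c, hc⟩ => ⟨c, injective_of_mono S.f W'' ?_⟩⟩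
  rw [mp_sum, mp_res, ← res_res S.X₂ k l, ha, res_sum]
  simp only [mp_res, hz, res_sum, res_res, Finset.smul_sum, smul_smul, Category.assoc]
  rw [Finset.sum_comm]
  refine Finset.sum_congr rfl fun i _ => ?_
  rw [hc i, Finset.sum_smul]
  exact Finset.sum_congr rfl fun j _ => congrArg₂ (· • ·)
    (congrArg (c j * ·) ((resR_resR h (l ≫ k ≫ q) (r j i)).trans (by rw [Category.assoc, Category.assoc])).symm) rfl

/-- The cokernel of a map from a finitely generated module. -/
theorem relBy_coker {S : ShortComplex (ModSite.Mod O)} (hS : S.Exact) [Epi S.g] {U : C} {ι κ γ : Type}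
    [Fintype ι] [Fintype κ] [Fintype γ] {s : ι → ModSite.sect S.X₂ U} (hs : GenBy s)
    {r : κ → ι → O.obj.obj (op U)} (hr : RelBy s r) {t : γ → ModSite.sect S.X₁ U} (ht : GenBy t) :
    ∃ T ∈ J U, ∀ ⦃V : C⦄ (h : V ⟶ U), T h →
      ∃ r' : κ ⊕ γ → ι → O.obj.obj (op V), RelBy (fun i => res S.X₃ h (mp S.g U (s i))) r' := by
  obtain ⟨T, hT, hT'⟩ := inter_mem (fun k => spanSieve (𝟙 U) s (mp S.f U (t k))) fun k => hs (𝟙 U) _
  refine ⟨T, hT, fun V h hh => ?_⟩
  choose A hA using fun k => hT' k h hh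
  simp only [Category.comp_id] at hA
  refine ⟨Sum.elim (fun j i => resR h (r j i)) A, ?_, fun W q a ha => ?_⟩
  · rintro (j | k)
    · have := congrArg (fun x => res S.X₃ h (mp S.g U x)) (hr.1 j)
      simpa only [mp_sum, res_sum, map_zero, Sum.elim_inl] using this
    · simp only [Sum.elim_inr, ← mp_res, ← mp_sum, ← hA]
      rw [← mp_comp S.f S.g, S.zero, mp_zero]
  · let x : ModSite.sect S.X₂ W := ∑ i, a i • res S.X₂ (q ≫ h) (s i)
    have hx : mp S.g W x = 0 := by
      rw [mp_sum]
      refine Eq.trans ?_ ha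
      simp only [mp_res, res_res]
    refine cover_trans (exists_lift_of_exact hS x hx) fun W₁ l ⟨y, hy⟩ => ?_
    refine ⟨_, J.bind_covering (ht (l ≫ q ≫ h) y) (R := fun {W₂} m (hm : (spanSieve (l ≫ q ≫ h) t y).arrows m) =>
      coefSieve (m ≫ l ≫ q ≫ h) r fun i => resR (m ≫ l) (a i) -
        ∑ k, hm.choose k * resR (m ≫ l ≫ q) (A k i)) (fun W₂ m hm => hr.2 _ _ ?_), fun W₃ n hn => ?_⟩
    · simp only [sub_smul, Finset.sum_sub_distrib, Finset.sum_smul, mul_smul]
      rw [sub_eq_zero, Finset.sum_comm]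
      have e1 : ∀ k, ∑ i, resR (m ≫ l ≫ q) (A k i) • res S.X₂ (m ≫ l ≫ q ≫ h) (s i) =
          mp S.f W₂ (res S.X₁ (m ≫ l ≫ q ≫ h) (t k)) := fun k => by
        have := congrArg (res S.X₂ (m ≫ l ≫ q)) (hA k)
        simp only [res_res, res_sum, Category.assoc] at this
        rw [mp_res, this]
      simp only [← Finset.smul_sum, e1]
      rw [← mp_sum, ← hm.choose_spec, mp_res, hy, res_res, res_sum]
      simp only [res_res, Category.assoc]
    · obtain ⟨W₂, n', m, hm, ⟨c, hc⟩, rfl⟩ := hn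
      refine ⟨Sum.elim c (fun k => resR n' (hm.choose k)), fun i => ?_⟩
      have := hc i
      simp only [resR, map_sub, map_sum, map_mul, sub_eq_iff_eq_add] at this
      simp only [Fintype.sum_sum_type, Sum.elim_inl, Sum.elim_inr, resR]
      have e : ∀ {U' V' W' : C} (g : V' ⟶ U') (g' : W' ⟶ V') (e' : W' ⟶ U') (x : O.obj.obj (op U')),
          g' ≫ g = e' → (O.obj.map g'.op).hom ((O.obj.map g.op).hom x) = (O.obj.map e'.op).hom x :=
        fun g g' e' x he => he ▸ resR_resR g g' x
      rw [← e (m ≫ l) n' ((n' ≫ m) ≫ l) (a i) (by simp), this]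
      refine congrArg₂ (· + ·) (Finset.sum_congr rfl fun j _ => congrArg (_ * ·) ?_)
        (Finset.sum_congr rfl fun k _ => congrArg (_ * ·) ?_)
      · exact (e h _ _ (r j i) (by simp)).symm
      · exact e _ _ _ (A k i) (by simp)

end GrothLib.SecGen25
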