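import Groth.Agent.Lib.SecGen25.Stalk
import Mathlib.Algebra.Category.ModuleCat.Sheaf.LocallyFree
import Mathlib.SetTheory.Cardinal.Finite

/-! # The rank of a locally free module -/

set_option autoImplicit false
set_option linter.all false
set_option maxHeartbeats 800000
set_option backward.isDefEq.respectTransparency false
set_option backward.isDefEq.respectTransparency.types false
universe u

open CategoryTheory CategoryTheory.Limits Opposite TopologicalSpace

noncomputable section

namespace GrothLib.SecGen25

open FlatRel25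

variable {X : TopCat.{u}} {O : TopCat.Sheaf CommRingCat.{u} X} {M : ModSite.Mod O}

theorem card_finset_le {U U' W : Opens X} (k : W ⟶ U) (k' : W ⟶ U') [Nontrivial (O.obj.obj (op W))]
    {I J : Type u} [Fintype I] (e : (ModSite.restr O U).obj M ≅ Fr O U I)
    (e' : (ModSite.restr O U').obj M ≅ Fr O U' J) (T : Finset J) : T.card ≤ Fintype.card I := by
  classical
  let v : T → ModSite.sect M W := fun t => res M k' (isoBasis e' t.1)
  choose A hA using fun t : T => exists_eq_sum_bas (mp e.hom (Over.mk k) (v t))
  let f : (T → O.obj.obj (op W)) →ₗ[O.obj.obj (op W)] (I → O.obj.obj (op W)) :=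
    Fintype.linearCombination (O.obj.obj (op W)) fun t => A t
  have hf : Function.Injective f := (injective_iff_map_eq_zero f).2 fun b hb => by
    let z : ModSite.sect M W := ∑ t, b t • v t
    have hz : mp e.hom (Over.mk k) z = 0 := by
      have h1 : mp e.hom (Over.mk k) z = ∑ t : T, (show (O.over U).obj.obj (op (Over.mk k)) from b t) •
          ∑ i, (show (O.over U).obj.obj (op (Over.mk k)) from A t i) • bas O (Over.mk k) i := by
        simp only [← hA]
        exact mp_sum (M := (ModSite.restr O U).obj M) e.hom (V := Over.mk k) b v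
      rw [h1]
      simp only [Finset.smul_sum, smul_smul]
      rw [Finset.sum_comm]
      refine Finset.sum_eq_zero fun i _ => ?_
      rw [← Finset.sum_smul]
      have : ∑ t : T, (show O.obj.obj (op W) from b t) * (show O.obj.obj (op W) from A t i) = 0 := by
        have := congrFun hb i
        simpa [f, Fintype.linearCombination_apply] using this
      refine Eq.trans (congrArg (fun r => (show (O.over U).obj.obj (op (Over.mk k)) from r) • bas O (Over.mk k) i) ?_)
        (zero_smul _ _)
      exact this
    have hz0 : z = 0 := by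
      have := congrArg (mp e.inv (Over.mk k)) hz
      rw [← mp_comp, e.hom_inv_id, mp_id, map_zero] at this
      exact this
    let c : J → O.obj.obj (op W) := fun j => if h : j ∈ T then b ⟨j, h⟩ else 0
    have h2 : mp e'.inv (Over.mk k')
        (∑ j ∈ T, (show (O.over U').obj.obj (op (Over.mk k')) from c j) • bas O (Over.mk k') j) = 0 := by
      rw [map_sum]
      refine Eq.trans ?_ hz0
      refine (Finset.sum_coe_sort T _).symm.trans (Finset.sum_congr rfl fun t _ => ?_)
      rw [mp_smul, mp_bas]
      simp only [c, dif_pos t.2]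
      rfl
    have h3 := congrArg (mp e'.hom (Over.mk k')) h2
    rw [← mp_comp, e'.inv_hom_id, mp_id, map_zero] at h3
    funext t
    have := coef_eq_zero (W := Over.mk k') T c h3 t.2
    simpa [c] using this
  simpa using card_le_of_injective (O.obj.obj (op W)) f hf

theorem card_eq {x : X} [Nontrivial (O.presheaf.stalk x)] {U U' : Opens X} (hx : x ∈ U) (hx' : x ∈ U')
    {I J : Type u} (e : (ModSite.restr O U).obj M ≅ Fr O U I)
    (e' : (ModSite.restr O U').obj M ≅ Fr O U' J) : ENat.card I = ENat.card J := by
  let W : Opens X := U ⊓ U'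
  have : Nontrivial (O.obj.obj (op W)) := (O.presheaf.germ W x ⟨hx, hx'⟩).hom.domain_nontrivial
  have key : ∀ {I J : Type u} {U U' : Opens X} (k : W ⟶ U) (k' : W ⟶ U')
      (e : (ModSite.restr O U).obj M ≅ Fr O U I) (e' : (ModSite.restr O U').obj M ≅ Fr O U' J),
      Finite I → Finite J ∧ Nat.card J ≤ Nat.card I := by
    intro I J U U' k k' e e' _
    cases nonempty_fintype I
    have hle := card_finset_le k k' e e'
    have hJ : Finite J := by
      by_contra hJ
      rw [not_finite_iff_infinite] at hJ
      obtain ⟨T, hT⟩ := Infinite.exists_subset_card_eq J (Fintype.card I + 1)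
      have := hle T
      omega
    cases nonempty_fintype J
    exact ⟨inferInstance, by simpa [Nat.card_eq_fintype_card] using hle Finset.univ⟩
  by_cases hI : Finite I
  · obtain ⟨hJ, h1⟩ := key (homOfLE inf_le_left) (homOfLE inf_le_right) e e' hI
    obtain ⟨-, h2⟩ := key (homOfLE inf_le_right) (homOfLE inf_le_left) e' e hJ
    rw [ENat.card_eq_coe_natCard I, ENat.card_eq_coe_natCard J, le_antisymm h2 h1]
  · by_cases hJ : Finite J
    · exact absurd (key (homOfLE inf_le_right) (homOfLE inf_le_left) e' e hJ).1 hI
    · rw [not_finite_iff_infinite] at hI hJ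
      rw [ENat.card_eq_top_of_infinite, ENat.card_eq_top_of_infinite]

theorem exists_rank (hO : ∀ x : X, Nontrivial (O.presheaf.stalk x))
    (hM : SheafOfModules.IsLocallyFree (R := ModSite.ringSh O) M) :
    ∃ rk : X → ℕ∞, IsLocallyConstant rk ∧
      ∀ (x : X) (U : Opens X) (I : Type u), x ∈ U →
        Nonempty ((ModSite.restr O U).obj M ≅ SheafOfModules.free I) → ENat.card I = rk x := by
  obtain ⟨q, hq⟩ := hM.exists_isLocallyFreeData
  have hloc : ∀ x : X, ∃ i : q.I, x ∈ q.X i := fun x => by
    obtain ⟨V, f, ⟨i, ⟨g⟩⟩, hV⟩ := q.coversTop ⊤ x trivial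
    exact ⟨i, g.le hV⟩
  choose i hi using hloc
  have e : ∀ i, (ModSite.restr O (q.X i)).obj M ≅ Fr O (q.X i) (q.generators i).I := fun i =>
    (@asIso _ _ _ _ (q.generators i).π (hq.isIso i)).symm
  refine ⟨fun x => ENat.card (q.generators (i x)).I, ?_, fun x U I hx ⟨f⟩ => ?_⟩
  · refine (IsLocallyConstant.iff_exists_open _).2 fun x => ⟨_, (q.X (i x)).isOpen, hi x, fun y hy => ?_⟩
    have := hO y
    exact card_eq (hi y) hy (e (i y)) (e (i x))
  · have := hO x
    exact card_eq hx (hi x) f (e (i x))

end GrothLib.SecGen25
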