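import Groth.Agent.Lib.SecGen25.Ops
import Groth.Agent.Lib.FlatRel25.Points
import Mathlib.Topology.Sheaves.Points

/-! # Finitely generated modules on spaces -/

set_option autoImplicit false
set_option linter.all false
set_option maxHeartbeats 800000
set_option backward.isDefEq.respectTransparency false
set_option backward.isDefEq.respectTransparency.types false
universe u

open CategoryTheory CategoryTheory.Limits Opposite TopologicalSpace

noncomputable section

namespace GrothLib.SecGen25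

open FlatRel25

variable {X : TopCat.{u}} {O : TopCat.Sheaf CommRingCat.{u} X}

local notation "pt" => Opens.pointGrothendieckTopology

theorem exists_fg {M : ModSite.Mod O} (h : SheafOfModules.IsFiniteType (R := ModSite.ringSh O) M) (x : X) :
    ∃ U : Opens X, x ∈ U ∧ FG M U := by
  obtain ⟨U, f, hU, hx⟩ := isFiniteType_iff.1 h ⊤ x trivial
  exact ⟨U, hx, hU⟩

theorem exists_fp {M : ModSite.Mod O} (h : SheafOfModules.IsFinitePresentation (R := ModSite.ringSh O) M) (x : X) :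
    ∃ U : Opens X, x ∈ U ∧ FP M U := by
  obtain ⟨U, f, hU, hx⟩ := isFinitePresentation_iff.1 h ⊤ x trivial
  exact ⟨U, hx, hU⟩

theorem isFiniteType_of_nhds {M : ModSite.Mod O} (h : ∀ x : X, ∃ U : Opens X, x ∈ U ∧ FG M U) :
    SheafOfModules.IsFiniteType (R := ModSite.ringSh O) M :=
  isFiniteType_iff.2 fun V x hx => by
    obtain ⟨U, hxU, hU⟩ := h x
    exact ⟨U ⊓ V, homOfLE inf_le_right, hU.restrict (homOfLE inf_le_left), hxU, hx⟩

theorem isFinitePresentation_of_nhds {M : ModSite.Mod O} (h : ∀ x : X, ∃ U : Opens X, x ∈ U ∧ FP M U) :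
    SheafOfModules.IsFinitePresentation (R := ModSite.ringSh O) M :=
  isFinitePresentation_iff.2 fun V x hx => by
    obtain ⟨U, hxU, hU⟩ := h x
    exact ⟨U ⊓ V, homOfLE inf_le_right, hU.restrict (homOfLE inf_le_left), hxU, hx⟩

theorem isFiniteType_middle (S : ShortComplex (ModSite.Mod O)) (hS : S.ShortExact)
    (h₁ : SheafOfModules.IsFiniteType (R := ModSite.ringSh O) S.X₁)
    (h₃ : SheafOfModules.IsFiniteType (R := ModSite.ringSh O) S.X₃) :
    SheafOfModules.IsFiniteType (R := ModSite.ringSh O) S.X₂ := by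
  refine isFiniteType_of_nhds fun x => ?_
  obtain ⟨U₁, hx₁, ι, _, s, hs⟩ := exists_fg h₁ x
  obtain ⟨U₃, hx₃, κ, _, t, ht⟩ := exists_fg h₃ x
  have := hS.epi_g
  obtain ⟨T, hT, hT'⟩ := exists_lifts S.g t
  obtain ⟨V, k, hk, hxV⟩ := hT x hx₃
  choose z hz using hT' k hk
  let W : Opens X := U₁ ⊓ V
  refine ⟨W, ⟨hx₁, hxV⟩, ι ⊕ κ, inferInstance, _, GenBy.ext hS.exact (U := W)
    (hs.restrict (homOfLE inf_le_left)) (fun j => res S.X₂ (homOfLE inf_le_right) (z j)) ?_⟩
  have h := ht.restrict ((homOfLE inf_le_right : W ⟶ V) ≫ k)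
  have e : (fun j => mp S.g W (res S.X₂ (homOfLE inf_le_right : W ⟶ V) (z j))) =
      fun j => res S.X₃ ((homOfLE inf_le_right : W ⟶ V) ≫ k) (t j) :=
    funext fun j => by rw [mp_res, hz, res_res]
  exact e ▸ h

theorem exists_epi_restr {G F : ModSite.Mod O} (φ : G ⟶ F)
    (hF : SheafOfModules.IsFiniteType (R := ModSite.ringSh O) F) (x : X)
    (hx : Function.Surjective (ModSite.stalkMap (pt x) φ).hom) :
    ∃ U : Opens X, x ∈ U ∧ Epi ((ModSite.restr O U).map φ) := by
  obtain ⟨U, hxU, ι, _, s, hs⟩ := exists_fg hF x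
  choose m hm using fun i => hx (ModSite.germ (pt x) F U ⟨⟨hxU⟩⟩ (s i))
  obtain ⟨Y, g, y, t, -, hy, ht, -⟩ := exists_common_nhd (pt x) (X := U) ⟨⟨hxU⟩⟩ (F := G) m
    (fun e : Empty => e.elim)
  have hgerm : ∀ i, ModSite.germ (pt x) F Y y (mp φ Y (t i)) = ModSite.germ (pt x) F Y y (res F g (s i)) := by
    intro i
    rw [germ_res, hy, ← hm i, ← ht i]
    exact ((pt x).toPresheafFiber_naturality_apply ((SheafOfModules.toSheaf (ModSite.ringSh O)).map φ).hom Y y (t i)).symm
  obtain ⟨Z, f, z, -, hz⟩ := exists_res_eq (pt x) y _ _ hgerm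
  refine ⟨Z, z.down.down, epi_restr_of_lift φ (hs.restrict (f ≫ g)) (fun i => res G f (t i)) fun i => ?_⟩
  rw [mp_res, hz i, res_res]

theorem isFiniteType_kernel {G F : ModSite.Mod O} (θ : G ⟶ F) [Epi θ]
    (hG : SheafOfModules.IsFiniteType (R := ModSite.ringSh O) G)
    (hF : SheafOfModules.IsFinitePresentation (R := ModSite.ringSh O) F) :
    SheafOfModules.IsFiniteType (R := ModSite.ringSh O) (kernel θ) := by
  refine isFiniteType_of_nhds fun x => ?_
  obtain ⟨U, hxU, ι, _, g, hg⟩ := exists_fg hG x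
  obtain ⟨U', hxU', a, b, _, _, s, r, hs, hr⟩ := exists_fp hF x
  let W : Opens X := U ⊓ U'
  obtain ⟨T, hT, hT'⟩ := exists_relBy (hs.restrict (homOfLE inf_le_right : W ⟶ U'))
    (hr.restrict (homOfLE inf_le_right : W ⟶ U')) ((hg.restrict (homOfLE inf_le_left : W ⟶ U)).map θ)
  obtain ⟨V, k, hk, hxV⟩ := hT x ⟨hxU, hxU'⟩
  obtain ⟨r', hr'⟩ := hT' k hk
  let S := ShortComplex.mk (kernel.ι θ) θ (kernel.condition θ)
  have hS : S.Exact := S.exact_of_f_is_kernel (kernelIsKernel θ)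
  have : Mono S.f := inferInstanceAs (Mono (kernel.ι θ))
  obtain ⟨T₂, hT₂, hT₂'⟩ := genBy_kernel hS (g := fun i => res G k (res G (homOfLE inf_le_left : W ⟶ U) (g i)))
    ((hg.restrict (homOfLE inf_le_left : W ⟶ U)).restrict k) (r := r') (by
      show RelBy (fun i => mp θ V (res G k (res G (homOfLE inf_le_left : W ⟶ U) (g i)))) r'
      simp only [mp_res] at hr' ⊢
      exact hr')
  obtain ⟨V', k', hk', hxV'⟩ := hT₂ x hxV
  obtain ⟨z, hz⟩ := hT₂' k' hk'
  exact ⟨V', hxV', _, inferInstance, z, hz⟩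

theorem isFinitePresentation_cokernel {G F : ModSite.Mod O} (φ : G ⟶ F)
    (hG : SheafOfModules.IsFiniteType (R := ModSite.ringSh O) G)
    (hF : SheafOfModules.IsFinitePresentation (R := ModSite.ringSh O) F) :
    SheafOfModules.IsFinitePresentation (R := ModSite.ringSh O) (cokernel φ) := by
  refine isFinitePresentation_of_nhds fun x => ?_
  obtain ⟨U, hxU, ι, _, g, hg⟩ := exists_fg hG x
  obtain ⟨U', hxU', a, b, _, _, s, r, hs, hr⟩ := exists_fp hF x
  let W : Opens X := U ⊓ U'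
  let S := ShortComplex.mk φ (cokernel.π φ) (cokernel.condition φ)
  have hS : S.Exact := S.exact_of_g_is_cokernel (cokernelIsCokernel φ)
  have : Epi S.g := inferInstanceAs (Epi (cokernel.π φ))
  have hs' := hs.restrict (homOfLE inf_le_right : W ⟶ U')
  obtain ⟨T, hT, hT'⟩ := relBy_coker hS hs' (hr.restrict (homOfLE inf_le_right : W ⟶ U'))
    (hg.restrict (homOfLE inf_le_left : W ⟶ U))
  obtain ⟨V, k, hk, hxV⟩ := hT x ⟨hxU, hxU'⟩
  obtain ⟨r', hr'⟩ := hT' k hk
  exact ⟨V, hxV, _, _, inferInstance, inferInstance, _, _, (hs'.map S.g).restrict k, hr'⟩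

end GrothLib.SecGen25
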