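import Groth.Agent.Lib.SecGen25.Free
import Mathlib.RingTheory.LocalRing.Module

/-! # Bases and stalks -/

set_option autoImplicit false
set_option linter.all false
set_option maxHeartbeats 800000
set_option backward.isDefEq.respectTransparency false
set_option backward.isDefEq.respectTransparency.types false
universe u

open CategoryTheory CategoryTheory.Limits Opposite TopologicalSpace

noncomputable section

namespace GrothLib.SecGen25

open FlatRel25

variable {X : TopCat.{u}} {O : TopCat.Sheaf CommRingCat.{u} X} {M N L : ModSite.Mod O} {x : X}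

local notation "pt" => Opens.pointGrothendieckTopology

/-- The site stalk and the stalk of the structure sheaf. -/
theorem nonempty_stalkRing_equiv (O : TopCat.Sheaf CommRingCat.{u} X) (x : X) :
    Nonempty (ModSite.stalkRing (pt x) O ≃+* O.presheaf.stalk x) := by
  let φ : ModSite.stalkRing (pt x) O ⟶ O.presheaf.stalk x :=
    GrothendieckTopology.Point.presheafFiberDesc (pt x) (fun U h => O.presheaf.germ U x h.down.down)
      (fun _ _ f h => O.presheaf.germ_res f x h.down.down)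
  have hφ : ∀ (U : Opens X) (h : (pt x).fiber.obj U) (r : O.obj.obj (op U)),
      φ (ModSite.germRing (pt x) U h r) = O.presheaf.germ U x h.down.down r := fun U h r =>
    ConcreteCategory.congr_hom
      (GrothendieckTopology.Point.toPresheafFiber_presheafFiberDesc (pt x) (P := O.presheaf) _
        (fun _ _ f h => O.presheaf.germ_res f x h.down.down) U h) r
  refine ⟨RingEquiv.ofBijective φ.hom ⟨fun a b hab => ?_, fun a => ?_⟩⟩
  · obtain ⟨U, h, s, t, rfl, rfl⟩ := (pt x).toPresheafFiber_jointly_surjective₂ (P := O.presheaf) a b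
    have he : O.presheaf.germ U x h.down.down s = O.presheaf.germ U x h.down.down t :=
      (hφ U h s).symm.trans (hab.trans (hφ U h t))
    obtain ⟨W, hW, iU, iU', e⟩ := O.presheaf.germ_eq x h.down.down h.down.down s t he
    rw [Subsingleton.elim iU' iU] at e
    exact ((pt x).toPresheafFiber_eq_iff' U h s t).2 ⟨W, iU, ⟨⟨hW⟩⟩, rfl, e⟩
  · obtain ⟨U, hU, s, rfl⟩ := O.presheaf.exists_germ_eq a
    exact ⟨ModSite.germRing (pt x) U ⟨⟨hU⟩⟩ s, hφ U ⟨⟨hU⟩⟩ s⟩

theorem stalkMap_germ (φ : M ⟶ N) (U : Opens X) (h : (pt x).fiber.obj U) (s : ModSite.sect M U) :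
    (ModSite.stalkMap (pt x) φ).hom (ModSite.germ (pt x) M U h s) = ModSite.germ (pt x) N U h (mp φ U s) :=
  (pt x).toPresheafFiber_naturality_apply ((SheafOfModules.toSheaf (ModSite.ringSh O)).map φ).hom U h s

theorem exists_germ (m : ModSite.stalkMod (pt x) M) :
    ∃ (U : Opens X) (h : (pt x).fiber.obj U) (s : ModSite.sect M U), ModSite.germ (pt x) M U h s = m :=
  by
  obtain ⟨U, h, s, hs⟩ := (pt x).toPresheafFiber_jointly_surjective (P := (ModSite.toAb M).obj) m
  exact ⟨U, h, s, hs⟩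

theorem exists_germ_eq_sum {U : Opens X} (hx : x ∈ U) {ι : Type*} [Fintype ι] {s : ι → ModSite.sect M U}
    (hs : GenBy s) (m : ModSite.stalkMod (pt x) M) :
    ∃ c : ι → ModSite.stalkRing (pt x) O, m = ∑ i, c i • ModSite.germ (pt x) M U ⟨⟨hx⟩⟩ (s i) := by
  obtain ⟨Y, g, y, t, -, -, ht, -⟩ := exists_common_nhd (pt x) (X := U) ⟨⟨hx⟩⟩ (F := M) (fun _ : Unit => m)
    (fun e : Empty => e.elim)
  obtain ⟨V, k, ⟨a, ha⟩, hV⟩ := hs g (t ()) x y.down.down
  refine ⟨fun i => ModSite.germRing (pt x) V ⟨⟨hV⟩⟩ (a i), ?_⟩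
  rw [← ht (), show y = (pt x).fiber.map k ⟨⟨hV⟩⟩ from rfl, ← germ_res, ha, germ_sum_smul]
  exact Finset.sum_congr rfl fun i _ => congrArg _ (germ_res (pt x) _ _ _)

theorem coef_zero_of_germ {U : Opens X} (hx : x ∈ U) {ι : Type*} [Fintype ι] {s : ι → ModSite.sect M U}
    (hs : Indep s) (c : ι → ModSite.stalkRing (pt x) O)
    (h : ∑ i, c i • ModSite.germ (pt x) M U ⟨⟨hx⟩⟩ (s i) = 0) : c = 0 := by
  obtain ⟨Y, g, y, -, a, hy, -, ha⟩ := exists_common_nhd (pt x) (X := U) ⟨⟨hx⟩⟩ (F := M)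
    (fun e : Empty => e.elim) c
  obtain ⟨Z, f, z, hz, he⟩ := exists_res_eq (pt x) y (fun _ : Unit => ∑ i, a i • res M g (s i)) (fun _ => 0) fun _ => by
    rw [germ_sum_smul]
    refine Eq.trans ?_ (map_zero ((pt x).toPresheafFiber Y y (ModSite.toAb M).obj).hom).symm
    refine Eq.trans (Finset.sum_congr rfl fun i _ => congrArg₂ (· • ·) (ha i) ?_) h
    rw [germ_res, hy]
  have := hs (f ≫ g) (fun i => resR f (a i)) (by
    have := he ()
    rw [res_sum, map_zero] at this
    simpa only [res_res] using this)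
  funext i
  rw [← ha i, show y = (pt x).fiber.map f z from hz.symm, ← germRing_res, show resR f (a i) = 0 from congrFun this i]
  exact map_zero ((pt x).toPresheafFiber Z z O.obj).hom

/-- The germs of a basis form a basis. -/
theorem nonempty_stalk_equiv {U : Opens X} (hx : x ∈ U) {ι : Type*} [Fintype ι] {s : ι → ModSite.sect M U}
    (hs : GenBy s) (hi : Indep s) :
    Nonempty ((ι → ModSite.stalkRing (pt x) O) ≃ₗ[ModSite.stalkRing (pt x) O] ModSite.stalkMod (pt x) M) := by
  refine ⟨LinearEquiv.ofBijective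
    (Fintype.linearCombination _ fun i => ModSite.germ (pt x) M U ⟨⟨hx⟩⟩ (s i)) ⟨?_, fun m => ?_⟩⟩
  · exact (injective_iff_map_eq_zero _).2 fun c hc => coef_zero_of_germ hx hi c hc
  · obtain ⟨c, rfl⟩ := exists_germ_eq_sum hx hs m
    exact ⟨c, rfl⟩

theorem GenBy.of_span {ι κ : Type*} [Fintype ι] [Fintype κ] {U : Opens X} {s : ι → ModSite.sect M U}
    {t : κ → ModSite.sect M U} (hs : GenBy s) (a : ι → κ → O.obj.obj (op U))
    (h : ∀ i, s i = ∑ k, a i k • t k) : GenBy t := fun V g y => by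
  refine (Opens.grothendieckTopology X).superset_covering ?_ (hs g y)
  rintro W l ⟨b, hb⟩
  refine ⟨fun k => ∑ i, b i * resR (l ≫ g) (a i k), hb.trans ?_⟩
  simp only [h, res_sum, Finset.smul_sum, smul_smul, Finset.sum_smul]
  rw [Finset.sum_comm]

theorem exists_free_nhd (hM : SheafOfModules.IsFinitePresentation (R := ModSite.ringSh O) M) (x : X) (r : ℕ)
    (e : ModSite.stalkMod (pt x) M ≃ₗ[ModSite.stalkRing (pt x) O] (Fin r → ModSite.stalkRing (pt x) O)) :
    ∃ U : Opens X, x ∈ U ∧ Nonempty ((ModSite.restr O U).obj M ≅ SheafOfModules.free (ULift.{u} (Fin r))) := by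
  classical
  obtain ⟨U, hxU, ι, κ, _, _, s, ρ, hs, hρ⟩ := exists_fp hM x
  let m : Fin r → ModSite.stalkMod (pt x) M := fun k => e.symm (Pi.single k 1)
  have hspan : ∀ v, v = ∑ k, e v k • m k := fun v => e.injective <| by
    rw [map_sum]
    simp only [map_smul, m, LinearEquiv.apply_symm_apply]
    exact pi_eq_sum_univ' (e v)
  obtain ⟨Y, g, y, t, a, hy, ht, ha⟩ := exists_common_nhd (pt x) (X := U) ⟨⟨hxU⟩⟩ (F := M) m
    (fun p : ι × Fin r => e (ModSite.germ (pt x) M U ⟨⟨hxU⟩⟩ (s p.1)) p.2)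
  obtain ⟨Z, f, z, hz, he⟩ := exists_res_eq (pt x) y (fun i => res M g (s i)) (fun i => ∑ k, a (i, k) • t k) fun i => by
    rw [germ_res, hy, germ_sum_smul]
    simp only [ha, ht]
    exact hspan _
  have hgen : GenBy fun k => res M f (t k) :=
    ((hs.restrict g).restrict f).of_span (fun i k => resR f (a (i, k))) fun i => by rw [he i, res_sum]
  obtain ⟨T, hT, hT'⟩ := exists_relBy ((hs.restrict g).restrict f) ((hρ.restrict g).restrict f) hgen
  obtain ⟨V, v, hv, hxV⟩ := hT x z.down.down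
  obtain ⟨ρ', hρ'⟩ := hT' v hv
  have hgermzero : ∀ j k, ModSite.germRing (pt x) V ⟨⟨hxV⟩⟩ (ρ' j k) = 0 := fun j => by
    have h0 := congrArg (fun w => ModSite.germ (pt x) M V ⟨⟨hxV⟩⟩ w) (hρ'.1 j)
    simp only [germ_sum_smul, germ_res] at h0
    have hm : ∀ k, ModSite.germ (pt x) M Y ((pt x).fiber.map f ((pt x).fiber.map v ⟨⟨hxV⟩⟩)) (t k) = m k :=
      fun k => ht k
    simp only [hm] at h0
    have h1 := congrArg e (h0.trans (map_zero ((pt x).toPresheafFiber V ⟨⟨hxV⟩⟩ (ModSite.toAb M).obj).hom))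
    rw [map_sum, map_zero] at h1
    simp only [map_smul, m, LinearEquiv.apply_symm_apply] at h1
    intro k
    have h2 := congrFun h1 k
    simpa [Pi.single_apply] using h2
  obtain ⟨W, w, hw, -, hW⟩ := exists_resR_eq (pt x) (X := V) ⟨⟨hxV⟩⟩ (fun p : (κ ⊕ Fin r) × Fin r => ρ' p.1 p.2)
    (fun _ => 0) fun p => by rw [hgermzero]; exact (map_zero ((pt x).toPresheafFiber V _ O.obj).hom).symm
  exact ⟨W, hw.down.down, nonempty_iso ((hgen.restrict v).restrict w) (indep_of_relBy_zero (hρ'.restrict w)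
    fun j k => (hW (j, k)).trans (map_zero _))⟩

theorem exists_free_summand (hO : ∀ x : X, IsLocalRing (O.presheaf.stalk x)) {F H : ModSite.Mod O}
    (hH : ∀ x : X, ∃ (U : Opens X) (n : ℕ), x ∈ U ∧
      Nonempty ((ModSite.restr O U).obj H ≅ SheafOfModules.free (ULift.{u} (Fin n))))
    (i : F ⟶ H) (p : H ⟶ F) (hip : i ≫ p = 𝟙 F) (x : X) :
    ∃ (U : Opens X) (n : ℕ), x ∈ U ∧
      Nonempty ((ModSite.restr O U).obj F ≅ SheafOfModules.free (ULift.{u} (Fin n))) := by
  have hHfp : SheafOfModules.IsFinitePresentation (R := ModSite.ringSh O) H :=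
    isFinitePresentation_of_nhds fun y => by
      obtain ⟨U, n, hy, ⟨e⟩⟩ := hH y
      exact ⟨U, hy, fp_of_iso e⟩
  have hHft : SheafOfModules.IsFiniteType (R := ModSite.ringSh O) H :=
    isFiniteType_of_nhds fun y => by
      obtain ⟨U, hy, h⟩ := exists_fp hHfp y
      exact ⟨U, hy, h.fg⟩
  -- `F` is finitely presented
  have hF : SheafOfModules.IsFinitePresentation (R := ModSite.ringSh O) F := by
    refine isFinitePresentation_of_nhds fun y => ?_
    obtain ⟨U, hyU, ι, _, g, hg⟩ := exists_fg hHft y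
    obtain ⟨U', hyU', a, b, _, _, s, r, hs, hr⟩ := exists_fp hHfp y
    let S := ShortComplex.mk (𝟙 H - p ≫ i) p (by
      rw [Preadditive.sub_comp, Category.assoc, hip, Category.comp_id, Category.id_comp, sub_self])
    have : Epi p := (IsSplitEpi.mk' ⟨i, hip⟩).epi
    have hS : S.Exact := by
      refine S.exact_of_g_is_cokernel (CokernelCofork.IsColimit.ofπ _ _ (fun k hk => i ≫ k) ?_ ?_)
      · intro Z k hk
        have hk' : (𝟙 H - p ≫ i) ≫ k = 0 := hk
        rw [Preadditive.sub_comp, Category.id_comp, sub_eq_zero, Category.assoc] at hk'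
        exact hk'.symm
      · intro Z k hk q hq
        rw [← hq]
        change q = i ≫ p ≫ q
        rw [← Category.assoc, hip, Category.id_comp]
    have : Epi S.g := inferInstanceAs (Epi p)
    let W : Opens X := U ⊓ U'
    have hs' := hs.restrict (homOfLE inf_le_right : W ⟶ U')
    obtain ⟨T, hT, hT'⟩ := relBy_coker hS hs' (hr.restrict (homOfLE inf_le_right : W ⟶ U'))
      (hg.restrict (homOfLE inf_le_left : W ⟶ U))
    obtain ⟨V, k, hk, hyV⟩ := hT y ⟨hyU, hyU'⟩
    obtain ⟨r', hr'⟩ := hT' k hk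
    exact ⟨V, hyV, _, _, inferInstance, inferInstance, _, _, (hs'.map S.g).restrict k, hr'⟩
  -- the stalk is free
  obtain ⟨U, n, hxU, ⟨e⟩⟩ := hH x
  obtain ⟨eR⟩ := nonempty_stalkRing_equiv O x
  have := hO x
  have : IsLocalRing (ModSite.stalkRing (pt x) O) := RingEquiv.isLocalRing eR.symm
  obtain ⟨eH⟩ := nonempty_stalk_equiv (M := H) hxU (genBy_isoBasis e) (indep_isoBasis e)
  have hsplit : (ModSite.stalkMap (pt x) p).hom ∘ₗ (ModSite.stalkMap (pt x) i).hom = LinearMap.id := by
    refine LinearMap.ext fun m => ?_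
    obtain ⟨V, h, s, rfl⟩ := exists_germ m
    refine (congrArg (ModSite.stalkMap (pt x) p).hom (stalkMap_germ i V h s)).trans ?_
    refine (stalkMap_germ p V h _).trans ?_
    rw [← mp_comp, hip, mp_id]
    rfl
  have hsurj : Function.Surjective (ModSite.stalkMap (pt x) p).hom := fun m =>
    ⟨_, LinearMap.congr_fun hsplit m⟩
  have : Module.Finite (ModSite.stalkRing (pt x) O) (ModSite.stalkMod (pt x) H) := Module.Finite.equiv eH
  have : Module.Projective (ModSite.stalkRing (pt x) O) (ModSite.stalkMod (pt x) H) := Module.Projective.of_equiv eH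
  have : Module.Finite (ModSite.stalkRing (pt x) O) (ModSite.stalkMod (pt x) F) := Module.Finite.of_surjective _ hsurj
  have : Module.Projective (ModSite.stalkRing (pt x) O) (ModSite.stalkMod (pt x) F) :=
    Module.Projective.of_split _ _ hsplit
  have : Module.Free (ModSite.stalkRing (pt x) O) (ModSite.stalkMod (pt x) F) := Module.free_of_flat_of_isLocalRing
  obtain ⟨U', hxU', h⟩ := exists_free_nhd hF x _
    (Module.finBasis (ModSite.stalkRing (pt x) O) (ModSite.stalkMod (pt x) F)).equivFun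
  exact ⟨U', _, hxU', h⟩

theorem isIso_of_epi (r : ℕ) {F G : ModSite.Mod O}
    (hF : ∀ x : X, ∃ U : Opens X, x ∈ U ∧
      Nonempty ((ModSite.restr O U).obj F ≅ SheafOfModules.free (ULift.{u} (Fin r))))
    (hG : ∀ x : X, ∃ U : Opens X, x ∈ U ∧
      Nonempty ((ModSite.restr O U).obj G ≅ SheafOfModules.free (ULift.{u} (Fin r))))
    (φ : F ⟶ G) [Epi φ] : IsIso φ := by
  have : Mono φ := mono_of_injective φ fun W => (injective_iff_map_eq_zero _).2 fun v hv => by
    choose U hxU eU using hF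
    choose U' hxU' eU' using hG
    let S : Sieve W := ⟨fun V _ => ∃ y, V ≤ U y ⊓ U' y, fun {V V' g} ⟨y, hy⟩ k => ⟨y, k.le.trans hy⟩⟩
    have hS : S ∈ Opens.grothendieckTopology X W := fun y hy =>
      ⟨W ⊓ (U y ⊓ U' y), homOfLE inf_le_left, ⟨y, inf_le_right⟩, hy, hxU y, hxU' y⟩
    refine eq_zero_of_cover hS fun V g ⟨y, hy⟩ => ?_
    obtain ⟨e⟩ := eU y
    obtain ⟨e'⟩ := eU' y
    have k : V ⟶ U y ⊓ U' y := homOfLE hy
    exact eq_zero_of_bases φ ((genBy_isoBasis e).restrict (homOfLE inf_le_left : U y ⊓ U' y ⟶ U y))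
      ((genBy_isoBasis e').restrict (homOfLE inf_le_right : U y ⊓ U' y ⟶ U' y))
      ((indep_isoBasis e').restrict (homOfLE inf_le_right : U y ⊓ U' y ⟶ U' y)) k (res F g v)
      (by rw [mp_res, hv, map_zero])
  exact isIso_of_mono_of_epi φ

end GrothLib.SecGen25
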